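import Cfsg.Agent.H879.E83.PNine
import Cfsg.Agent.H138.E8L.Scal

/-!
# S5925: helper138's `Mh`, `Q2` are those of `PNine`
-/

set_option autoImplicit false
set_option linter.style.longLine false

namespace Cfsg.Agent.H879.E83
open Matrix

section
variable {F : Type*} [Field F]

theorem Mh_eq (q : Mt F) : Cfsg.Agent.H138.E8L.Mh q = Mh q := by
  ext a b
  fin_cases a <;> fin_cases b <;>
    simp [Cfsg.Agent.H138.E8L.Mh, Mh, Cfsg.Agent.H138.E8L.J, Jv, Cfsg.Agent.H138.E8L.sg, sgm]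

theorem Q2_eq (q : Mt F) : Cfsg.Agent.H138.E8L.Q2 q = Q2 q := by
  ext a b
  fin_cases a <;> fin_cases b <;>
    simp [Cfsg.Agent.H138.E8L.Q2, Q2, Cfsg.Agent.H138.E8L.S, Sv, Cfsg.Agent.H138.E8L.tw]

end
end Cfsg.Agent.H879.E83
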