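import Cfsg.Agent.H879.E83.GThree

/-!
# S5925, box G3: the ten ternary parameters of `P a b = (q₀⁻¹) a b * q₀ b a`
-/

set_option autoImplicit false
set_option linter.style.longLine false

namespace Cfsg.Agent.H879.E83
open Matrix

section
variable {F : Type*} [Field F] {g : F}

theorem k00_m00 (hg : g ^ 4 = 1 - g) (h3 : (3 : F) = 0) (m : Fin 5) : k00 g m + m00 g m = s00 m := by
  have e1 := a1 hg h3
  have e2 := a2 hg h3
  fin_cases m <;> simp [k00, m00, s00]
  · linear_combination e1
  · linear_combination e2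
  · linear_combination e2
  · linear_combination e1

theorem k01_m01 (hg : g ^ 4 = 1 - g) (h3 : (3 : F) = 0) (m : Fin 5) : k01 g m + m01 g m = s01 m := by
  have e1 := a1 hg h3
  have e3 := a3 hg h3
  fin_cases m <;> simp [k01, m01, s01]
  · linear_combination e1
  · linear_combination e1
  · linear_combination e3
  · linear_combination e3

theorem cr5_add (k k' : Fin 5 → F) (A : Mt F) (a : Fin 5) : cr5 k A a + cr5 k' A a = cr5 (fun m => k m + k' m) A a := by
  unfold cr5
  rw [← Finset.sum_add_distrib]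
  exact Finset.sum_congr rfl fun c _ => by ring

theorem cube_add (h3 : (3 : F) = 0) (a b : F) : (a + b) ^ 3 = a ^ 3 + b ^ 3 := by
  linear_combination (a ^ 2 * b + a * b ^ 2) * h3

theorem cube_sum (h3 : (3 : F) = 0) {α : Type*} (s : Finset α) (f : α → F) : (∑ i ∈ s, f i) ^ 3 = ∑ i ∈ s, f i ^ 3 := by
  classical
  induction s using Finset.induction_on with
  | empty => simp
  | insert a s ha ih => rw [Finset.sum_insert ha, Finset.sum_insert ha, cube_add h3, ih]

/-- `∑ a, χ_{-l}(a) ∑ c, k (a - c) d c = (∑ m, χ_{-l}(m) k m) (∑ c, χ_{-l}(c) d c)` -/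
theorem ft_cr5 (hg : g ^ 4 = 1 - g) (h3 : (3 : F) = 0) (k : Fin 5 → F) (A : Mt F) (l : Fin 5) :
    ∑ a, ch g l a * cr5 k A a = (∑ m, ch g l m * k m) * ∑ c, ch g l c * A c c := by
  unfold cr5
  simp only [Finset.mul_sum]
  rw [Finset.sum_comm]
  refine Finset.sum_congr rfl fun c _ => ?_
  rw [Finset.sum_mul]
  refine Fintype.sum_equiv (Equiv.subRight c) _ _ fun a => ?_
  change ch g l a * (k (a - c) * A c c) = ch g l (a - c) * k (a - c) * (ch g l c * A c c)
  have e : ch g l a = ch g l (a - c) * ch g l c := by rw [← ch_add hg h3, sub_add_cancel]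
  rw [e]; ring

variable {L : Type*} [AddCommGroup L] [Module F L] {X Y T : Module.End F L}
  {ι : Mt F × Mt F →ₗ[F] L} {q0 r0 q1 r1 : Mt F}

/-- C1, diagonal entries -/
theorem GFrame.C1d (h : GFrame g X Y T ι q0 r0 q1 r1) (D : Fin 5 → F) (a : Fin 5) :
    cr5 s00 (TA q0 r0 D) a + cr5 s01 (TB q1 r1 D) a - TA q0 r0 D a a = D (a - 2) - D a := by
  have e := congrFun (congrFun (h.C1m D).1 a) a
  rw [Matrix.sub_apply, Matrix.add_apply] at e
  simp only [XP0, XM0, if_true, V0, Matrix.diagonal_apply_eq] at e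
  rw [← e]
  have e0 : cr5 s00 (TA q0 r0 D) a = cr5 (k00 g) (TA q0 r0 D) a + cr5 (m00 g) (TA q0 r0 D) a := by
    rw [cr5_add]; exact congrArg (fun k => cr5 k _ a) (funext fun m => (k00_m00 h.hg h.h3 m).symm)
  have e1 : cr5 s01 (TB q1 r1 D) a = cr5 (k01 g) (TB q1 r1 D) a + cr5 (m01 g) (TB q1 r1 D) a := by
    rw [cr5_add]; exact congrArg (fun k => cr5 k _ a) (funext fun m => (k01_m01 h.hg h.h3 m).symm)
  rw [e0, e1]; ring

/-- the Fourier coefficients of `P`: `p j l = - ∑ χ_{-l}(c) P c b χ_j(b)` -/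
def pf (g : F) (P : Fin 5 → Fin 5 → F) (j l : Fin 5) : F := - ∑ c, ∑ b, ch g (-l) c * P c b * ch g j b

/-- Fourier inversion -/
theorem inversion (hg : g ^ 4 = 1 - g) (h3 : (3 : F) = 0) (P : Fin 5 → Fin 5 → F) (a b : Fin 5) :
    P a b = - ∑ j, ∑ l, pf g P j l * ch g l a * ch g (-j) b := by
  have o : ∀ (x y : Fin 5), ∑ l, ch g (-l) x * ch g l y = if x = y then 5 else 0 := by
    intro x y
    have e : ∀ l, ch g (-l) x * ch g l y = ch g l (y - x) := by
      intro l
      have e1 : ch g l y = ch g l (y - x) * ch g l x := by rw [← ch_add hg h3, sub_add_cancel]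
      rw [e1]
      linear_combination (ch g l (y - x)) * ch_neg_mul hg h3 l x
    simp only [e]
    by_cases hxy : x = y
    · subst hxy
      simp [ch_zero]
    · rw [if_neg hxy]
      have : y - x ≠ 0 := fun hh => hxy (sub_eq_zero.mp hh).symm
      calc ∑ l, ch g l (y - x) = ∑ l, ch g (y - x) l := Finset.sum_congr rfl fun l _ => ch_comm g _ _
        _ = 0 := ch_sum hg h3 _ this
  have e1 : ∑ j, ∑ l, pf g P j l * ch g l a * ch g (-j) b
      = - ∑ c, ∑ d, P c d * (∑ l, ch g (-l) c * ch g l a) * (∑ j, ch g (-j) b * ch g j d) := by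
    simp only [pf, neg_mul, Finset.sum_mul, Finset.mul_sum, Finset.sum_neg_distrib]
    congr 1
    calc ∑ j, ∑ l, ∑ c, ∑ d, ch g (-l) c * P c d * ch g j d * ch g l a * ch g (-j) b
        = ∑ j, ∑ c, ∑ l, ∑ d, ch g (-l) c * P c d * ch g j d * ch g l a * ch g (-j) b :=
          Finset.sum_congr rfl fun j _ => Finset.sum_comm
      _ = ∑ c, ∑ j, ∑ l, ∑ d, ch g (-l) c * P c d * ch g j d * ch g l a * ch g (-j) b := Finset.sum_comm
      _ = ∑ c, ∑ j, ∑ d, ∑ l, ch g (-l) c * P c d * ch g j d * ch g l a * ch g (-j) b :=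
          Finset.sum_congr rfl fun c _ => Finset.sum_congr rfl fun j _ => Finset.sum_comm
      _ = ∑ c, ∑ d, ∑ j, ∑ l, ch g (-l) c * P c d * ch g j d * ch g l a * ch g (-j) b :=
          Finset.sum_congr rfl fun c _ => Finset.sum_comm
      _ = _ := by
          refine Finset.sum_congr rfl fun c _ => Finset.sum_congr rfl fun d _ => ?_
          refine Finset.sum_congr rfl fun j _ => Finset.sum_congr rfl fun l _ => ?_
          ring
  rw [e1, neg_neg]
  simp only [o]
  have : ∀ c d : Fin 5, P c d * (if c = a then 5 else 0) * (if b = d then 5 else 0)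
      = if c = a then (if b = d then P c d else 0) else 0 := by
    intro c d
    by_cases h1 : c = a <;> by_cases h2 : b = d <;> simp [h1, h2]
    subst h1; subst h2
    linear_combination (8 * P c b) * h3
  simp only [this]
  rw [Finset.sum_eq_single a]
  · simp
  · intro c _ hc; simp [hc]
  · simp

/-- the values of `P` -/
structure PData (g : F) (P : Fin 5 → Fin 5 → F) : Prop where
  row : ∀ a, ∑ b, P a b = 1
  col : ∀ b, ∑ a, P a b = 1
  sym : ∀ a b, P a b = P b a
  eq : ∀ j l, j ≠ 0 → l ≠ 0 →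
    g ^ (alE l) * (ch g j (-2) - 1) * pf g P j l + g ^ (beE l) * (1 - ch g j (-1)) * pf g P j l ^ 3
      = if j = l then -(ch g j (-2) - 1) else 0

theorem GFrame.pdata (h : GFrame g X Y T ι q0 r0 q1 r1) (hs : q0ᵀ = q0)
    (hP : ∀ a b, r1 (3 * a) (3 * b) * q1 (3 * b) (3 * a) = (r0 a b * q0 b a) ^ 3) :
    PData g fun a b => r0 a b * q0 b a where
  row a := by
    have := congrFun (congrFun h.rq0 a) a
    rwa [Matrix.mul_apply, Matrix.one_apply_eq] at this
  col b := by
    have hq : q0 * r0 = 1 := mul_eq_one_comm.mp h.rq0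
    have := congrFun (congrFun hq b) b
    rw [Matrix.mul_apply, Matrix.one_apply_eq] at this
    rw [← this]; exact Finset.sum_congr rfl fun _ _ => mul_comm _ _
  sym a b := by
    have hr : r0ᵀ = r0 := by
      have e1 : q0 * r0ᵀ = 1 := by
        have := congrArg Matrix.transpose h.rq0
        rwa [Matrix.transpose_mul, hs, Matrix.transpose_one] at this
      have e2 : r0 * (q0 * r0ᵀ) = r0 := by rw [e1, Matrix.mul_one]
      rwa [← Matrix.mul_assoc, h.rq0, Matrix.one_mul] at e2
    have e1 : r0 a b = r0 b a := by conv_lhs => rw [← hr, Matrix.transpose_apply]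
    have e2 : q0 b a = q0 a b := by conv_lhs => rw [← hs, Matrix.transpose_apply]
    simp only [e1, e2]
  eq j l hj hl := by
    set P : Fin 5 → Fin 5 → F := fun a b => r0 a b * q0 b a with hPd
    have hg := h.hg
    have h3 := h.h3
    have c1 := fun a => h.C1d (ch g j) a
    have chs : ∀ a s : Fin 5, ch g j (a - s) = ch g j a * ch g j (-s) := fun a s => by
      rw [sub_eq_add_neg, ch_add hg h3]
    have hA : ∀ c, TA q0 r0 (ch g j) c c = -((ch g j (-2) - 1) * ∑ b, P c b * ch g j b) := by
      intro c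
      rw [TA, Matrix.neg_apply, Matrix.mul_apply]
      congr 1
      rw [Finset.mul_sum]
      refine Finset.sum_congr rfl fun b _ => ?_
      rw [V0, Matrix.mul_diagonal, chs b 2, hPd]; ring
    have hB : ∀ c, TB q1 r1 (ch g j) c c = -((1 - ch g j (-1)) * ∑ b, r1 c b * q1 b c * ch g j b) := by
      intro c
      rw [TB, Matrix.neg_apply, Matrix.mul_apply]
      congr 1
      rw [Finset.mul_sum]
      refine Finset.sum_congr rfl fun b _ => ?_
      rw [V1, Matrix.mul_diagonal, chs b 1]; ring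
    -- transform
    have t1 : ∑ a, ch g (-l) a * (cr5 s00 (TA q0 r0 (ch g j)) a + cr5 s01 (TB q1 r1 (ch g j)) a - TA q0 r0 (ch g j) a a)
        = ∑ a, ch g (-l) a * (ch g j (a - 2) - ch g j a) := Finset.sum_congr rfl fun a _ => by rw [c1]
    have t2 : ∑ a, ch g (-l) a * (cr5 s00 (TA q0 r0 (ch g j)) a + cr5 s01 (TB q1 r1 (ch g j)) a - TA q0 r0 (ch g j) a a)
        = (∑ m, ch g (-l) m * s00 m - 1) * (∑ c, ch g (-l) c * TA q0 r0 (ch g j) c c)
          + (∑ m, ch g (-l) m * s01 m) * (∑ c, ch g (-l) c * TB q1 r1 (ch g j) c c) := by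
      rw [sub_mul, ← ft_cr5 hg h3, ← ft_cr5 hg h3, one_mul, ← Finset.sum_sub_distrib, ← Finset.sum_add_distrib]
      exact Finset.sum_congr rfl fun a _ => by ring
    have t3 : ∑ a, ch g (-l) a * (ch g j (a - 2) - ch g j a) = if j = l then -(ch g j (-2) - 1) else 0 := by
      have e : ∀ a, ch g (-l) a * (ch g j (a - 2) - ch g j a) = (ch g j (-2) - 1) * ch g (-l + j) a := by
        intro a; rw [chs a 2, ch_add_left hg h3]; ring
      simp only [e, ← Finset.mul_sum]
      by_cases hjl : j = l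
      · subst hjl
        rw [if_pos rfl, neg_add_cancel]
        simp only [ch_zero_left, Finset.sum_const, Finset.card_univ, Fintype.card_fin, nsmul_eq_mul]
        push_cast
        linear_combination (2 * (ch g j (-2) - 1)) * h3
      · rw [if_neg hjl, ch_sum hg h3, mul_zero]
        intro hh
        exact hjl (by rw [neg_add_eq_zero] at hh; exact hh.symm)
    have uA : ∑ c, ch g (-l) c * TA q0 r0 (ch g j) c c = (ch g j (-2) - 1) * pf g P j l := by
      rw [pf, mul_neg, Finset.mul_sum, ← Finset.sum_neg_distrib]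
      refine Finset.sum_congr rfl fun c _ => ?_
      rw [hA, Finset.mul_sum, Finset.mul_sum, mul_neg, Finset.mul_sum]
      congr 1
      exact Finset.sum_congr rfl fun b _ => by ring
    have uB : ∑ c, ch g (-l) c * TB q1 r1 (ch g j) c c = (1 - ch g j (-1)) * pf g P j l ^ 3 := by
      have e1 : pf g P j l ^ 3 = - ∑ c, ∑ b, ch g (-l) c * (r1 c b * q1 b c) * ch g j b := by
        have e2 : pf g P j l ^ 3 = - ∑ c, ∑ b, ch g (-l) (3 * c) * (r1 (3 * c) (3 * b) * q1 (3 * b) (3 * c)) * ch g j (3 * b) := by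
          have e3 : ∀ x : F, (-x) ^ 3 = -(x ^ 3) := fun x => by ring
          rw [pf, e3, cube_sum h3]
          congr 1
          refine Finset.sum_congr rfl fun c _ => ?_
          rw [cube_sum h3]
          refine Finset.sum_congr rfl fun b _ => ?_
          rw [hP, mul_pow, mul_pow, ch_cube hg h3, ch_cube hg h3]
        have bij : Function.Bijective (fun c : Fin 5 => 3 * c) := by
          rw [Function.Bijective, Function.Injective, Function.Surjective]; decide
        rw [e2]
        congr 1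
        rw [← Fintype.sum_bijective _ bij (fun c => ∑ b, ch g (-l) (3 * c) * (r1 (3 * c) (3 * b) * q1 (3 * b) (3 * c)) * ch g j (3 * b))
          (fun c => ∑ b, ch g (-l) c * (r1 c b * q1 b c) * ch g j b) fun c => ?_]
        exact Fintype.sum_bijective _ bij _ _ fun b => rfl
      rw [e1, mul_neg, Finset.mul_sum, ← Finset.sum_neg_distrib]
      refine Finset.sum_congr rfl fun c _ => ?_
      rw [hB, Finset.mul_sum, Finset.mul_sum, mul_neg, Finset.mul_sum]
      congr 1
      exact Finset.sum_congr rfl fun b _ => by ring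
    rw [← t3, ← t1, t2, uA, uB, ft_s00 hg h3 l hl, ft_s01 hg h3 l hl]
    ring

theorem PData.pf_zero_zero (hg : g ^ 4 = 1 - g) (h3 : (3 : F) = 0) {P : Fin 5 → Fin 5 → F} (h : PData g P) : pf g P 0 0 = 1 := by
  have _ := hg
  simp only [pf, neg_zero, ch_zero_left, one_mul, mul_one, h.row, Finset.sum_const, Finset.card_univ, Fintype.card_fin,
    nsmul_eq_mul]
  push_cast
  linear_combination (-2) * h3

theorem PData.pf_zero_left (hg : g ^ 4 = 1 - g) (h3 : (3 : F) = 0) {P : Fin 5 → Fin 5 → F} (h : PData g P) {l : Fin 5}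
    (hl : l ≠ 0) : pf g P 0 l = 0 := by
  simp only [pf, ch_zero_left, mul_one, ← Finset.mul_sum, h.row]
  rw [ch_sum hg h3 _ (neg_ne_zero.mpr hl), neg_zero]

theorem PData.pf_zero_right (hg : g ^ 4 = 1 - g) (h3 : (3 : F) = 0) {P : Fin 5 → Fin 5 → F} (h : PData g P) {j : Fin 5}
    (hj : j ≠ 0) : pf g P j 0 = 0 := by
  rw [pf, Finset.sum_comm]
  simp only [neg_zero, ch_zero_left, one_mul, ← Finset.sum_mul, h.col]
  rw [ch_sum hg h3 _ hj, neg_zero]

theorem PData.pf_symm {P : Fin 5 → Fin 5 → F} (h : PData g P) (j l : Fin 5) : pf g P (-l) (-j) = pf g P j l := by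
  rw [pf, pf, Finset.sum_comm]
  congr 1
  refine Finset.sum_congr rfl fun c _ => Finset.sum_congr rfl fun b _ => ?_
  rw [neg_neg, h.sym b c]; ring

theorem eE_symm (j l : Fin 5) : eE (-l) (-j) = eE j l := by
  revert j l; decide

/-- each Fourier coefficient has three possible values -/
theorem PData.three (hg : g ^ 4 = 1 - g) (h3 : (3 : F) = 0) {P : Fin 5 → Fin 5 → F} (h : PData g P) {j l : Fin 5}
    (hj : j ≠ 0) (hl : l ≠ 0) : ∃ n : ZMod 3, pf g P j l = - (if j = l then 1 else 0) + (n.val : F) * g ^ (eE j l) := by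
  have e := h.eq j l hj hl
  have i1 := I1 hg h3 j l hj hl
  have i2 := I2 hg h3 j l hj hl
  have hb : g ^ (bE j l) ≠ 0 := pow_ne_zero _ (g_ne hg)
  set p := pf g P j l
  set η := g ^ (eE j l)
  set δ : F := if j = l then 1 else 0 with hδ
  rw [i1, i2] at e
  have key : g ^ (bE j l) * ((p + δ) * ((p + δ - η) * (p + δ + η))) = 0 := by
    by_cases hjl : j = l
    · subst hjl
      have i3 := I3 hg h3 j hj
      rw [i1, i2] at i3
      rw [if_pos rfl] at e hδ
      rw [hδ]
      linear_combination e + i3 + (g ^ (bE j j) * (p ^ 2 + p)) * h3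
    · rw [if_neg hjl] at e hδ
      rw [hδ]
      linear_combination e
  rcases mul_eq_zero.mp ((mul_eq_zero.mp key).resolve_left hb) with h0 | h1
  · exact ⟨0, by simp; linear_combination h0⟩
  · rcases mul_eq_zero.mp h1 with h1 | h1
    · refine ⟨1, ?_⟩
      have : ((1 : ZMod 3).val : F) = 1 := by norm_num [ZMod.val_one]
      rw [this]; linear_combination h1
    · refine ⟨2, ?_⟩
      have : ((2 : ZMod 3).val : F) = 2 := by
        have : (2 : ZMod 3).val = 2 := rfl
        rw [this]; norm_num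
      rw [this]; linear_combination h1 - η * h3

theorem orth (hg : g ^ 4 = 1 - g) (h3 : (3 : F) = 0) (a b : Fin 5) : ∑ j, ch g j a * ch g (-j) b = if a = b then 5 else 0 := by
  have e : ∀ j, ch g j a * ch g (-j) b = ch g j (a - b) := by
    intro j
    have e1 : ch g j a = ch g j (a - b) * ch g j b := by rw [← ch_add hg h3, sub_add_cancel]
    rw [e1]
    linear_combination (ch g j (a - b)) * ch_neg_mul hg h3 j b
  simp only [e]
  by_cases hab : a = b
  · subst hab
    simp [ch_zero]
  · rw [if_neg hab]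
    calc ∑ l, ch g l (a - b) = ∑ l, ch g (a - b) l := Finset.sum_congr rfl fun l _ => ch_comm g _ _
      _ = 0 := ch_sum hg h3 _ (sub_ne_zero.mpr hab)

theorem val_inj (h3 : (3 : F) = 0) {n m : ZMod 3} (h : (n.val : F) = (m.val : F)) : n = m := by
  have h1 : (1 : F) ≠ 0 := one_ne_zero
  have h2 : (2 : F) ≠ 0 := by
    intro h2; apply h1; linear_combination h3 - h2
  have v0 : (0 : ZMod 3).val = 0 := rfl
  have v1 : (1 : ZMod 3).val = 1 := rfl
  have v2 : (2 : ZMod 3).val = 2 := rfl
  have cs : ∀ n : ZMod 3, n = 0 ∨ n = 1 ∨ n = 2 := by decide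
  rcases cs n with rfl | rfl | rfl <;> rcases cs m with rfl | rfl | rfl <;>
    simp only [v0, v1, v2, Nat.cast_zero, Nat.cast_one, Nat.cast_ofNat] at h ⊢
  · exact absurd h.symm h1
  · exact absurd h.symm h2
  · exact absurd h h1
  · exact absurd (by linear_combination -h) h1
  · exact absurd h h2
  · exact absurd (by linear_combination h) h1

/-- **the parametrisation of `P` by ten ternary parameters** -/
theorem PData.param (hg : g ^ 4 = 1 - g) (h3 : (3 : F) = 0) {P : Fin 5 → Fin 5 → F} (h : PData g P) :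
    ∃ n : Fin 5 → Fin 5 → ZMod 3, (∀ l, n 0 l = 0) ∧ (∀ j, n j 0 = 0) ∧ (∀ j l, n (-l) (-j) = n j l) ∧
      ∀ a b, P a b = (if a = b then 0 else 1)
        - ∑ j, ∑ l, ((n j l).val : F) * g ^ (eE j l) * ch g l a * ch g (-j) b := by
  classical
  have ex : ∀ j l : Fin 5, ∃ n : ZMod 3, (j = 0 ∨ l = 0 → n = 0) ∧
      pf g P j l = (if j = l then -1 else 0) + (if j = 0 ∧ l = 0 then 2 else 0) + (n.val : F) * g ^ (eE j l) := by
    intro j l
    by_cases hj : j = 0
    · subst hj
      by_cases hl : l = 0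
      · subst hl
        exact ⟨0, fun _ => rfl, by rw [h.pf_zero_zero hg h3]; simp; norm_num⟩
      · exact ⟨0, fun _ => rfl, by rw [h.pf_zero_left hg h3 hl]; simp [hl, Ne.symm hl]⟩
    · by_cases hl : l = 0
      · subst hl
        exact ⟨0, fun _ => rfl, by rw [h.pf_zero_right hg h3 hj]; simp [hj]⟩
      · obtain ⟨n, hn⟩ := h.three hg h3 hj hl
        refine ⟨n, fun hh => absurd hh (by simp [hj, hl]), ?_⟩
        rw [hn]
        by_cases hjl : j = l <;> simp [hjl, hl]
  choose n hn0 hn using ex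
  refine ⟨n, fun l => hn0 0 l (Or.inl rfl), fun j => hn0 j 0 (Or.inr rfl), fun j l => ?_, fun a b => ?_⟩
  · have e1 := hn (-l) (-j)
    have e2 := hn j l
    rw [h.pf_symm, eE_symm, e2] at e1
    have c1 : (if -l = -j then (-1 : F) else 0) = if j = l then -1 else 0 := by
      by_cases hh : j = l
      · subst hh; simp
      · rw [if_neg hh, if_neg]; intro h4; exact hh (neg_injective h4).symm
    have c2 : (if -l = 0 ∧ -j = 0 then (2 : F) else 0) = if j = 0 ∧ l = 0 then 2 else 0 := by
      simp only [neg_eq_zero, and_comm]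
    rw [c1, c2] at e1
    have e3 : ((n j l).val : F) * g ^ (eE j l) = ((n (-l) (-j)).val : F) * g ^ (eE j l) := add_left_cancel e1
    exact (val_inj h3 (mul_right_cancel₀ (pow_ne_zero _ (g_ne hg)) e3)).symm
  · rw [inversion hg h3 P a b]
    have e : ∀ j l, pf g P j l * ch g l a * ch g (-j) b = (if j = l then -(ch g l a * ch g (-j) b) else 0)
        + (if j = 0 ∧ l = 0 then 2 else 0) + ((n j l).val : F) * g ^ (eE j l) * ch g l a * ch g (-j) b := by
      intro j l
      rw [hn j l]
      have z : (if j = 0 ∧ l = 0 then (2 : F) else 0) * ch g l a * ch g (-j) b = if j = 0 ∧ l = 0 then 2 else 0 := by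
        by_cases hh : j = 0 ∧ l = 0
        · obtain ⟨rfl, rfl⟩ := hh
          simp [ch_zero_left]
        · simp [hh]
      rw [add_mul, add_mul, add_mul, add_mul, z]
      by_cases hjl : j = l <;> simp [hjl]
    simp only [e, Finset.sum_add_distrib, Finset.sum_ite_eq, Finset.mem_univ, if_true]
    have e5 : ∑ j : Fin 5, ∑ l : Fin 5, (if j = 0 ∧ l = 0 then (2 : F) else 0) = 2 := by
      rw [Finset.sum_eq_single 0, Finset.sum_eq_single 0]
      · simp
      · intro l _ hl; simp [hl]
      · simp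
      · intro j _ hj; simp [hj]
      · simp
    rw [e5, Finset.sum_neg_distrib, orth hg h3]
    by_cases hab : a = b
    · simp only [hab, if_true]; linear_combination h3
    · simp only [hab, if_false]; linear_combination -h3

end
end Cfsg.Agent.H879.E83
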