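import Cfsg.Agent.H879.E83.Hecke
import Mathlib

/-!
# S5925, box G3: tables of `pr_u (x_z .)` on `sl(W₀) ⊕ sl(W₁)` and their scalar identities (`g ^ 4 = 1 - g`, `3 = 0`)
-/

set_option autoImplicit false
set_option linter.unusedVariables false
set_option linter.style.longLine false

namespace Cfsg.Agent.H879.E83

section scalars
variable {F : Type*} [Field F]

def k00 (g : F) : Fin 5 → F := ![0, g ^ 63, g ^ 26, g ^ 74, g ^ 7]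
def k01 (g : F) : Fin 5 → F := ![g ^ 7, g ^ 63, g ^ 69, 0, g ^ 61]
def k10 (g : F) : Fin 5 → F := ![g ^ 63, g ^ 69, 0, g ^ 61, g ^ 7]
def k11 (g : F) : Fin 5 → F := ![0, g ^ 78, g ^ 21, g ^ 29, g ^ 62]
def m00 (g : F) : Fin 5 → F := ![0, g ^ 7, g ^ 74, g ^ 26, g ^ 63]
def m01 (g : F) : Fin 5 → F := ![g ^ 63, g ^ 7, g ^ 61, 0, g ^ 69]
def m10 (g : F) : Fin 5 → F := ![g ^ 7, g ^ 61, 0, g ^ 69, g ^ 63]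
def m11 (g : F) : Fin 5 → F := ![0, g ^ 62, g ^ 29, g ^ 21, g ^ 78]
def s00 : Fin 5 → F := ![0, 1, -1, -1, 1]
def s01 : Fin 5 → F := ![1, 1, -1, 0, -1]
def c1 (g : F) : Fin 5 → F := ![g ^ 16, g ^ 24, g ^ 48, g ^ 60, g ^ 72]
def c4 (g : F) : Fin 5 → F := ![g ^ 8, g ^ 64, g ^ 56, g ^ 32, g ^ 20]
def d3 (g : F) : Fin 5 → F := ![g ^ 48, g ^ 24, g ^ 16, g ^ 72, g ^ 60]
def d2 (g : F) : Fin 5 → F := ![g ^ 64, g ^ 8, g ^ 20, g ^ 32, g ^ 56]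

/-- exponents of the leading coefficients (box C1) -/
def bE : Fin 5 → Fin 5 → ℕ := ![![0, 0, 0, 0, 0], ![0, 69, 61, 13, 5], ![0, 31, 23, 55, 47], ![0, 23, 15, 47, 39], ![0, 45, 37, 69, 61]]
/-- `p(j, l) ∈ - δ_jl + {0, ± g ^ (eE j l)}` -/
def eE : Fin 5 → Fin 5 → ℕ := ![![0, 0, 0, 0, 0], ![0, 30, 24, 8, 22], ![0, 16, 10, 34, 8], ![0, 32, 26, 10, 24], ![0, 38, 32, 16, 30]]

/-- the character `a ↦ w ^ (j a)`, `w = g ^ 16` -/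
def ch (g : F) (j a : Fin 5) : F := g ^ (16 * (((j * a : Fin 5) : ℕ)))

variable {g : F}

theorem g80 (hg : g ^ 4 = 1 - g) (h3 : (3 : F) = 0) : g ^ 80 = 1 := by
  linear_combination ((1)*g^0 + (1)*g^1 + (1)*g^2 + (1)*g^3 + (-1)*g^4 + (1)*g^6 + (-1)*g^7 + (1)*g^8 + (1)*g^9 + (-1)*g^10 + (1)*g^11 + (-1)*g^12 + (-1)*g^14 + (-1)*g^16 + (-1)*g^17 + (1)*g^18 + (1)*g^19 + (-1)*g^21 + (1)*g^23 + (1)*g^24 + (1)*g^27 + (-1)*g^28 + (-1)*g^29 + (-1)*g^30 + (-1)*g^32 + (1)*g^33 + (-1)*g^36 + (-1)*g^40 + (-1)*g^41 + (-1)*g^42 + (-1)*g^43 + (1)*g^44 + (-1)*g^46 + (1)*g^47 + (-1)*g^48 + (-1)*g^49 + (1)*g^50 + (-1)*g^51 + (1)*g^52 + (1)*g^54 + (1)*g^56 + (1)*g^57 + (-1)*g^58 + (-1)*g^59 + (1)*g^61 + (-1)*g^63 + (-1)*g^64 + (-1)*g^67 + (1)*g^68 + (1)*g^69 + (1)*g^70 + (1)*g^72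 + (-1)*g^73 + (1)*g^76) * hg + ((-1)*g^4 + (-1)*g^7 + (1)*g^8 + (-1)*g^10 + (1)*g^11 + (-1)*g^12 + (1)*g^18 + (-1)*g^28 + (1)*g^33 + (1)*g^44 + (1)*g^47 + (-1)*g^48 + (1)*g^50 + (-1)*g^51 + (1)*g^52 + (-1)*g^58 + (1)*g^68 + (-1)*g^73) * h3
theorem a1 (hg : g ^ 4 = 1 - g) (h3 : (3 : F) = 0) : g ^ 63 + g ^ 7 = 1 := by
  linear_combination ((1)*g^0 + (1)*g^1 + (1)*g^2 + (1)*g^3 + (-1)*g^4 + (1)*g^6 + (1)*g^7 + (1)*g^10 + (-1)*g^11 + (-1)*g^12 + (-1)*g^13 + (-1)*g^15 + (1)*g^16 + (-1)*g^19 + (-1)*g^23 + (-1)*g^24 + (-1)*g^25 + (-1)*g^26 + (1)*g^27 + (-1)*g^29 + (1)*g^30 + (-1)*g^31 + (-1)*g^32 + (1)*g^33 + (-1)*g^34 + (1)*g^35 + (1)*g^37 + (1)*g^39 + (1)*g^40 + (-1)*g^41 + (-1)*g^42 + (1)*g^44 + (-1)*g^46 + (-1)*g^47 + (-1)*g^50 + (1)*g^51 + (1)*g^52 + (1)*g^53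 + (1)*g^55 + (-1)*g^56 + (1)*g^59) * hg + ((-1)*g^4 + (-1)*g^11 + (1)*g^16 + (1)*g^27 + (1)*g^30 + (-1)*g^31 + (1)*g^33 + (-1)*g^34 + (1)*g^35 + (-1)*g^41 + (1)*g^51 + (-1)*g^56) * h3

theorem a2 (hg : g ^ 4 = 1 - g) (h3 : (3 : F) = 0) : g ^ 26 + g ^ 74 = -1 := by
  linear_combination ((-1)*g^0 + (-1)*g^1 + (-1)*g^2 + (-1)*g^3 + (1)*g^4 + (-1)*g^6 + (1)*g^7 + (-1)*g^8 + (-1)*g^9 + (1)*g^10 + (-1)*g^11 + (1)*g^12 + (1)*g^14 + (1)*g^16 + (1)*g^17 + (-1)*g^18 + (-1)*g^19 + (1)*g^21 + (-1)*g^23 + (-1)*g^24 + (-1)*g^26 + (1)*g^27 + (-1)*g^30 + (-1)*g^34 + (-1)*g^35 + (-1)*g^36 + (-1)*g^37 + (1)*g^38 + (-1)*g^40 + (1)*g^41 + (-1)*g^42 + (-1)*g^43 + (1)*g^44 + (-1)*g^45 + (1)*g^46 + (1)*g^48 + (1)*g^50 + (1)*g^51 + (-1)*g^52 + (-1)*g^53 + (1)*g^55 + (-1)*g^57 +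 (-1)*g^58 + (-1)*g^61 + (1)*g^62 + (1)*g^63 + (1)*g^64 + (1)*g^66 + (-1)*g^67 + (1)*g^70) * hg + ((1)*g^4 + (1)*g^7 + (-1)*g^8 + (1)*g^10 + (-1)*g^11 + (1)*g^12 + (-1)*g^18 + (1)*g^27 + (1)*g^38 + (1)*g^41 + (-1)*g^42 + (1)*g^44 + (-1)*g^45 + (1)*g^46 + (-1)*g^52 + (1)*g^62 + (-1)*g^67) * h3

theorem a3 (hg : g ^ 4 = 1 - g) (h3 : (3 : F) = 0) : g ^ 69 + g ^ 61 = -1 := by
  linear_combination ((-1)*g^0 + (-1)*g^1 + (-1)*g^2 + (-1)*g^3 + (1)*g^4 + (-1)*g^6 + (1)*g^7 + (-1)*g^8 + (-1)*g^9 + (1)*g^10 + (-1)*g^11 + (1)*g^12 + (1)*g^14 + (1)*g^16 + (1)*g^17 + (-1)*g^18 + (-1)*g^19 + (1)*g^21 + (-1)*g^23 + (-1)*g^24 + (-1)*g^27 + (1)*g^28 + (1)*g^29 + (1)*g^30 + (1)*g^32 + (-1)*g^33 + (1)*g^36 + (1)*g^40 + (1)*g^41 + (1)*g^42 + (1)*g^43 + (-1)*g^44 + (1)*g^46 +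 (-1)*g^47 + (1)*g^48 + (1)*g^49 + (-1)*g^50 + (1)*g^51 + (-1)*g^52 + (-1)*g^54 + (-1)*g^56 + (-1)*g^57 + (1)*g^58 + (1)*g^59 + (1)*g^61 + (-1)*g^62 + (1)*g^65) * hg + ((1)*g^4 + (1)*g^7 + (-1)*g^8 + (1)*g^10 + (-1)*g^11 + (1)*g^12 + (-1)*g^18 + (1)*g^28 + (-1)*g^33 + (-1)*g^44 + (-1)*g^47 + (1)*g^48 + (-1)*g^50 + (1)*g^51 + (-1)*g^52 + (1)*g^58 + (1)*g^61 + (-1)*g^62) * h3

theorem fix_k0 (hg : g ^ 4 = 1 - g) (h3 : (3 : F) = 0) (m : Fin 5) :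
    k00 g (m - 2) - k00 g m + k01 g m - k01 g (m - 1) = (if m = 2 then 1 else 0) - (if m = 0 then 1 else 0) := by
  fin_cases m
  · simp [k00, k01]
    try linear_combination ((-1)*g^0 + (-1)*g^1 + (-1)*g^2 + (-1)*g^3 + (1)*g^4 + (-1)*g^6 + (1)*g^8 + (1)*g^9 + (1)*g^12 + (-1)*g^13 + (-1)*g^14 + (-1)*g^15 + (-1)*g^17 + (1)*g^18 + (-1)*g^21 + (-1)*g^25 + (-1)*g^26 + (-1)*g^27 + (-1)*g^28 + (1)*g^29 + (-1)*g^31 + (1)*g^32 + (-1)*g^33 + (-1)*g^34 + (1)*g^35 + (-1)*g^36 + (1)*g^37 + (1)*g^39 + (1)*g^41 + (1)*g^42 + (-1)*g^43 + (-1)*g^44 + (1)*g^46 + (-1)*g^48 + (-1)*g^49 + (-1)*g^52 + (1)*g^53 + (1)*g^54 + (1)*g^55 + (1)*g^57 + (-1)*g^58 + (-1)*g^61 + (1)*g^62 + (1)*g^63 + (1)*g^64 + (1)*g^66 + (-1)*g^67 + (1)*g^70) * hg + ((1)*g^4 + (1)*g^7 + (-1)*g^13 + (1)*g^18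 + (1)*g^29 + (1)*g^32 + (-1)*g^33 + (1)*g^35 + (-1)*g^36 + (1)*g^37 + (-1)*g^43 + (1)*g^53 + (-1)*g^58 + (-1)*g^61 + (1)*g^62 + (-1)*g^67) * h3
  · simp [k00, k01]
    try linear_combination (0) * hg + (0) * h3
  · simp [k00, k01]
    try linear_combination ((1)*g^0 + (1)*g^1 + (1)*g^2 + (1)*g^3 + (-1)*g^4 + (1)*g^6 + (-1)*g^7 + (1)*g^8 + (1)*g^9 + (-1)*g^10 + (1)*g^11 + (-1)*g^12 + (-1)*g^14 + (-1)*g^16 + (-1)*g^17 + (1)*g^18 + (1)*g^19 + (-1)*g^21 + (1)*g^23 + (1)*g^24 + (1)*g^26 + (-1)*g^27 + (1)*g^30 + (1)*g^34 + (1)*g^35 + (1)*g^36 + (1)*g^37 + (-1)*g^38 + (1)*g^40 + (-1)*g^41 + (1)*g^42 + (1)*g^43 + (-1)*g^44 + (1)*g^45 + (-1)*g^46 + (-1)*g^48 + (-1)*g^50 + (-1)*g^51 + (1)*g^52 + (1)*g^53 + (-1)*g^55 + (1)*g^57 + (1)*g^58 + (1)*g^61 + (-1)*g^62 + (1)*g^65)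 * hg + ((-1)*g^4 + (-1)*g^7 + (1)*g^8 + (-1)*g^10 + (1)*g^11 + (-1)*g^12 + (1)*g^18 + (-1)*g^27 + (-1)*g^38 + (-1)*g^41 + (1)*g^42 + (-1)*g^44 + (1)*g^45 + (-1)*g^46 + (1)*g^52 + (-1)*g^62) * h3
  · simp [k00, k01]
    try linear_combination ((-1)*g^63 + (-1)*g^64 + (-1)*g^65 + (-1)*g^66 + (1)*g^67 + (-1)*g^70) * hg + ((1)*g^67) * h3
  · simp [k00, k01]
    try linear_combination ((1)*g^7 + (1)*g^8 + (1)*g^9 + (1)*g^10 + (-1)*g^11 + (1)*g^13 + (-1)*g^14 + (1)*g^15 + (1)*g^16 + (-1)*g^17 + (1)*g^18 + (-1)*g^19 + (-1)*g^21 + (-1)*g^23 + (-1)*g^24 + (1)*g^25 + (-1)*g^27 + (1)*g^28 + (-1)*g^29 + (-1)*g^30 + (1)*g^31 + (-1)*g^32 + (1)*g^33 + (1)*g^35 + (1)*g^37 + (1)*g^38 + (-1)*g^39 + (-1)*g^40 + (1)*g^42 + (-1)*g^44 + (-1)*g^45 + (-1)*g^48 + (1)*g^49 + (1)*g^50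 + (1)*g^51 + (1)*g^53 + (-1)*g^54 + (1)*g^57) * hg + ((-1)*g^11 + (-1)*g^14 + (1)*g^15 + (-1)*g^17 + (1)*g^18 + (-1)*g^19 + (1)*g^25 + (1)*g^28 + (-1)*g^29 + (1)*g^31 + (-1)*g^32 + (1)*g^33 + (-1)*g^39 + (1)*g^49 + (-1)*g^54) * h3

theorem fix_k1 (hg : g ^ 4 = 1 - g) (h3 : (3 : F) = 0) (m : Fin 5) :
    k10 g (m - 2) - k10 g m + k11 g m - k11 g (m - 1) = (if m = 0 then 1 else 0) - (if m = 1 then 1 else 0) := by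
  fin_cases m
  · simp [k10, k11]
    try linear_combination ((1)*g^0 + (1)*g^1 + (1)*g^2 + (1)*g^3 + (-1)*g^4 + (1)*g^6 + (-1)*g^7 + (1)*g^8 + (1)*g^9 + (-1)*g^10 + (1)*g^11 + (-1)*g^12 + (-1)*g^14 + (-1)*g^16 + (-1)*g^17 + (1)*g^18 + (1)*g^19 + (-1)*g^21 + (1)*g^23 + (1)*g^24 + (1)*g^27 + (-1)*g^28 + (-1)*g^29 + (-1)*g^30 + (-1)*g^32 + (1)*g^33 + (-1)*g^36 + (-1)*g^40 + (-1)*g^41 + (-1)*g^42 + (-1)*g^43 + (1)*g^44 + (-1)*g^46 + (1)*g^47 + (-1)*g^48 + (-1)*g^49 + (1)*g^50 + (-1)*g^51 + (1)*g^52 + (1)*g^54 + (1)*g^56 + (1)*g^57 + (-1)*g^58 + (-1)*g^59) * hg + ((-1)*g^4 + (-1)*g^7 + (1)*g^8 + (-1)*g^10 + (1)*g^11 + (-1)*g^12 + (1)*g^18 + (-1)*g^28 + (1)*g^33 + (1)*g^44 + (1)*g^47 + (-1)*g^48 + (1)*g^50 + (-1)*g^51 + (1)*g^52 + (-1)*g^58) * h3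
  · simp [k10, k11]
    try linear_combination ((-1)*g^0 + (-1)*g^1 + (-1)*g^2 + (-1)*g^3 + (1)*g^4 + (-1)*g^6 + (1)*g^8 + (1)*g^9 + (1)*g^12 + (-1)*g^13 + (-1)*g^14 + (-1)*g^15 + (-1)*g^17 + (1)*g^18 + (-1)*g^21 + (-1)*g^25 + (-1)*g^26 + (-1)*g^27 + (-1)*g^28 + (1)*g^29 + (-1)*g^31 + (1)*g^32 + (-1)*g^33 + (-1)*g^34 + (1)*g^35 + (-1)*g^36 + (1)*g^37 + (1)*g^39 + (1)*g^41 + (1)*g^42 + (-1)*g^43 + (-1)*g^44 + (1)*g^46 + (-1)*g^48 + (-1)*g^49 + (-1)*g^52 + (1)*g^53 + (1)*g^54 + (1)*g^55 + (1)*g^57 + (-1)*g^58 + (1)*g^61 + (1)*g^65 + (1)*g^66 + (1)*g^67 + (1)*g^68 + (1)*g^70 + (-1)*g^71 + (1)*g^74) * hg + ((1)*g^4 + (1)*g^7 + (-1)*g^13 + (1)*g^18 + (1)*g^29 + (1)*g^32 + (-1)*g^33 + (1)*g^35 + (-1)*g^36 + (1)*g^37 + (-1)*g^43 + (1)*g^53 + (-1)*g^58 + (-1)*g^69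 + (-1)*g^71) * h3
  · simp [k10, k11]
    try linear_combination ((-1)*g^21 + (-1)*g^22 + (-1)*g^23 + (-1)*g^24 + (1)*g^25 + (-1)*g^27 + (1)*g^28 + (-1)*g^29 + (-1)*g^30 + (1)*g^31 + (-1)*g^32 + (1)*g^33 + (1)*g^35 + (1)*g^37 + (1)*g^38 + (-1)*g^39 + (-1)*g^40 + (1)*g^42 + (-1)*g^44 + (-1)*g^45 + (-1)*g^48 + (1)*g^49 + (1)*g^50 + (1)*g^51 + (1)*g^53 + (-1)*g^54 + (1)*g^57 + (1)*g^61 + (1)*g^62 + (1)*g^65 + (-1)*g^66 + (-1)*g^67 + (-1)*g^68 + (-1)*g^70 + (1)*g^71 + (-1)*g^74) * hg + ((1)*g^25 + (1)*g^28 + (-1)*g^29 + (1)*g^31 + (-1)*g^32 + (1)*g^33 + (-1)*g^39 + (1)*g^49 + (-1)*g^54 + (-1)*g^66 + (1)*g^71) * h3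
  · simp [k10, k11]
    try linear_combination ((1)*g^21 + (1)*g^22 + (1)*g^23 + (1)*g^24 + (-1)*g^25 + (1)*g^27 + (-1)*g^28 + (1)*g^31 + (1)*g^35 + (1)*g^36 + (1)*g^37 + (1)*g^38 + (-1)*g^39 + (1)*g^41 + (-1)*g^42 + (1)*g^43 + (1)*g^44 + (-1)*g^45 + (1)*g^46 + (-1)*g^47 + (-1)*g^49 + (-1)*g^51 + (-1)*g^52 + (1)*g^53 + (1)*g^54 + (-1)*g^56 + (1)*g^58 + (1)*g^59 + (1)*g^61 + (-1)*g^62 + (1)*g^65) * hg + ((-1)*g^25 + (-1)*g^28 + (1)*g^29 + (-1)*g^39 + (-1)*g^42 + (1)*g^43 + (-1)*g^45 + (1)*g^46 + (-1)*g^47 + (1)*g^53 + (-1)*g^62) * h3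
  · simp [k10, k11]
    try linear_combination ((1)*g^7 + (1)*g^8 + (1)*g^9 + (1)*g^10 + (-1)*g^11 + (1)*g^13 + (-1)*g^14 + (1)*g^15 + (1)*g^16 + (-1)*g^17 + (1)*g^18 + (-1)*g^19 + (-1)*g^21 + (-1)*g^23 + (-1)*g^24 + (1)*g^25 + (1)*g^26 + (-1)*g^28 + (1)*g^29 + (-1)*g^30 + (-1)*g^31 + (1)*g^32 + (-1)*g^33 + (1)*g^34 + (1)*g^36 + (1)*g^38 + (1)*g^39 + (-1)*g^40 + (-1)*g^41 + (1)*g^43 + (-1)*g^45 + (-1)*g^46 + (-1)*g^49 + (1)*g^50 + (1)*g^51 + (1)*g^52 + (1)*g^54 + (-1)*g^55 + (1)*g^58) * hg + ((-1)*g^11 + (-1)*g^14 + (1)*g^15 + (-1)*g^17 + (1)*g^18 + (-1)*g^19 + (1)*g^25 + (-1)*g^30 + (1)*g^32 + (-1)*g^33 + (1)*g^34 + (-1)*g^40 + (1)*g^50 + (-1)*g^55) * h3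

theorem fix_m0 (hg : g ^ 4 = 1 - g) (h3 : (3 : F) = 0) (m : Fin 5) :
    m00 g (m - 2) - m00 g m + m01 g m - m01 g (m - 1) = (if m = 2 then 1 else 0) - (if m = 0 then 1 else 0) := by
  fin_cases m
  · simp [m00, m01]
    try linear_combination ((-1)*g^0 + (-1)*g^1 + (-1)*g^2 + (-1)*g^3 + (1)*g^4 + (-1)*g^6 + (1)*g^7 + (-1)*g^8 + (-1)*g^9 + (1)*g^10 + (-1)*g^11 + (1)*g^12 + (1)*g^14 + (1)*g^16 + (1)*g^17 + (-1)*g^18 + (-1)*g^19 + (1)*g^21 + (-1)*g^23 + (-1)*g^24 + (-1)*g^26 + (1)*g^27 + (-1)*g^30 + (-1)*g^34 + (-1)*g^35 + (-1)*g^36 + (-1)*g^37 + (1)*g^38 + (-1)*g^40 + (1)*g^41 + (-1)*g^42 + (-1)*g^43 + (1)*g^44 + (-1)*g^45 + (1)*g^46 + (1)*g^48 + (1)*g^50 + (1)*g^51 + (-1)*g^52 + (-1)*g^53 + (1)*g^55 + (-1)*g^57 + (-1)*g^58 + (-1)*g^61 + (1)*g^62 + (-1)*g^65)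 * hg + ((1)*g^4 + (1)*g^7 + (-1)*g^8 + (1)*g^10 + (-1)*g^11 + (1)*g^12 + (-1)*g^18 + (1)*g^27 + (1)*g^38 + (1)*g^41 + (-1)*g^42 + (1)*g^44 + (-1)*g^45 + (1)*g^46 + (-1)*g^52 + (1)*g^62) * h3
  · simp [m00, m01]
    try linear_combination (0) * hg + (0) * h3
  · simp [m00, m01]
    try linear_combination ((1)*g^0 + (1)*g^1 + (1)*g^2 + (1)*g^3 + (-1)*g^4 + (1)*g^6 + (-1)*g^8 + (-1)*g^9 + (-1)*g^12 + (1)*g^13 + (1)*g^14 + (1)*g^15 + (1)*g^17 + (-1)*g^18 + (1)*g^21 + (1)*g^25 + (1)*g^26 + (1)*g^27 + (1)*g^28 + (-1)*g^29 + (1)*g^31 + (-1)*g^32 + (1)*g^33 + (1)*g^34 + (-1)*g^35 + (1)*g^36 + (-1)*g^37 + (-1)*g^39 + (-1)*g^41 + (-1)*g^42 + (1)*g^43 + (1)*g^44 + (-1)*g^46 + (1)*g^48 + (1)*g^49 + (1)*g^52 + (-1)*g^53 + (-1)*g^54 + (-1)*g^55 + (-1)*g^57 + (1)*g^58 +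 (1)*g^61 + (-1)*g^62 + (-1)*g^63 + (-1)*g^64 + (-1)*g^66 + (1)*g^67 + (-1)*g^70) * hg + ((-1)*g^4 + (-1)*g^7 + (1)*g^13 + (-1)*g^18 + (-1)*g^29 + (-1)*g^32 + (1)*g^33 + (-1)*g^35 + (1)*g^36 + (-1)*g^37 + (1)*g^43 + (-1)*g^53 + (1)*g^58 + (1)*g^61 + (-1)*g^62 + (1)*g^67) * h3
  · simp [m00, m01]
    try linear_combination ((-1)*g^7 + (-1)*g^8 + (-1)*g^9 + (-1)*g^10 + (1)*g^11 + (-1)*g^13 + (1)*g^14 + (-1)*g^15 + (-1)*g^16 + (1)*g^17 + (-1)*g^18 + (1)*g^19 + (1)*g^21 + (1)*g^23 + (1)*g^24 + (-1)*g^25 + (1)*g^27 + (-1)*g^28 + (1)*g^29 + (1)*g^30 + (-1)*g^31 + (1)*g^32 + (-1)*g^33 + (-1)*g^35 + (-1)*g^37 + (-1)*g^38 + (1)*g^39 + (1)*g^40 + (-1)*g^42 + (1)*g^44 + (1)*g^45 + (1)*g^48 + (-1)*g^49 + (-1)*g^50 + (-1)*g^51 + (-1)*g^53 + (1)*g^54 + (-1)*g^57) * hg +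 ((1)*g^11 + (1)*g^14 + (-1)*g^15 + (1)*g^17 + (-1)*g^18 + (1)*g^19 + (-1)*g^25 + (-1)*g^28 + (1)*g^29 + (-1)*g^31 + (1)*g^32 + (-1)*g^33 + (1)*g^39 + (-1)*g^49 + (1)*g^54) * h3
  · simp [m00, m01]
    try linear_combination ((1)*g^63 + (1)*g^64 + (1)*g^65 + (1)*g^66 + (-1)*g^67 + (1)*g^70) * hg + ((-1)*g^67) * h3

theorem fix_m1 (hg : g ^ 4 = 1 - g) (h3 : (3 : F) = 0) (m : Fin 5) :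
    m10 g (m - 2) - m10 g m + m11 g m - m11 g (m - 1) = (if m = 0 then 1 else 0) - (if m = 1 then 1 else 0) := by
  fin_cases m
  · simp [m10, m11]
    try linear_combination ((1)*g^0 + (1)*g^1 + (1)*g^2 + (1)*g^3 + (-1)*g^4 + (1)*g^6 + (-1)*g^8 + (-1)*g^9 + (-1)*g^12 + (1)*g^13 + (1)*g^14 + (1)*g^15 + (1)*g^17 + (-1)*g^18 + (1)*g^21 + (1)*g^25 + (1)*g^26 + (1)*g^27 + (1)*g^28 + (-1)*g^29 + (1)*g^31 + (-1)*g^32 + (1)*g^33 + (1)*g^34 + (-1)*g^35 + (1)*g^36 + (-1)*g^37 + (-1)*g^39 + (-1)*g^41 + (-1)*g^42 + (1)*g^43 + (1)*g^44 + (-1)*g^46 + (1)*g^48 + (1)*g^49 + (1)*g^52 + (-1)*g^53 + (-1)*g^54 + (-1)*g^55 + (-1)*g^57 + (1)*g^58 + (-1)*g^61 + (-1)*g^65 + (-1)*g^66 + (-1)*g^67 + (-1)*g^68 + (-1)*g^70 + (1)*g^71 + (-1)*g^74) * hg + ((-1)*g^4 + (-1)*g^7 + (1)*g^13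 + (-1)*g^18 + (-1)*g^29 + (-1)*g^32 + (1)*g^33 + (-1)*g^35 + (1)*g^36 + (-1)*g^37 + (1)*g^43 + (-1)*g^53 + (1)*g^58 + (1)*g^69 + (1)*g^71) * h3
  · simp [m10, m11]
    try linear_combination ((-1)*g^0 + (-1)*g^1 + (-1)*g^2 + (-1)*g^3 + (1)*g^4 + (-1)*g^6 + (1)*g^7 + (-1)*g^8 + (-1)*g^9 + (1)*g^10 + (-1)*g^11 + (1)*g^12 + (1)*g^14 + (1)*g^16 + (1)*g^17 + (-1)*g^18 + (-1)*g^19 + (1)*g^21 + (-1)*g^23 + (-1)*g^24 + (-1)*g^27 + (1)*g^28 + (1)*g^29 + (1)*g^30 + (1)*g^32 + (-1)*g^33 + (1)*g^36 + (1)*g^40 + (1)*g^41 + (1)*g^42 + (1)*g^43 + (-1)*g^44 + (1)*g^46 + (-1)*g^47 + (1)*g^48 + (1)*g^49 + (-1)*g^50 + (1)*g^51 + (-1)*g^52 + (-1)*g^54 + (-1)*g^56 + (-1)*g^57 + (1)*g^58 + (1)*g^59) * hg + ((1)*g^4 + (1)*g^7 + (-1)*g^8 + (1)*g^10 + (-1)*g^11 + (1)*g^12 + (-1)*g^18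 + (1)*g^28 + (-1)*g^33 + (-1)*g^44 + (-1)*g^47 + (1)*g^48 + (-1)*g^50 + (1)*g^51 + (-1)*g^52 + (1)*g^58) * h3
  · simp [m10, m11]
    try linear_combination ((-1)*g^7 + (-1)*g^8 + (-1)*g^9 + (-1)*g^10 + (1)*g^11 + (-1)*g^13 + (1)*g^14 + (-1)*g^15 + (-1)*g^16 + (1)*g^17 + (-1)*g^18 + (1)*g^19 + (1)*g^21 + (1)*g^23 + (1)*g^24 + (-1)*g^25 + (-1)*g^26 + (1)*g^28 + (-1)*g^29 + (1)*g^30 + (1)*g^31 + (-1)*g^32 + (1)*g^33 + (-1)*g^34 + (-1)*g^36 + (-1)*g^38 + (-1)*g^39 + (1)*g^40 + (1)*g^41 + (-1)*g^43 + (1)*g^45 + (1)*g^46 + (1)*g^49 + (-1)*g^50 + (-1)*g^51 + (-1)*g^52 + (-1)*g^54 + (1)*g^55 + (-1)*g^58) * hg + ((1)*g^11 + (1)*g^14 + (-1)*g^15 + (1)*g^17 + (-1)*g^18 + (1)*g^19 + (-1)*g^25 + (1)*g^30 + (-1)*g^32 + (1)*g^33 + (-1)*g^34 + (1)*g^40 + (-1)*g^50 + (1)*g^55)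 * h3
  · simp [m10, m11]
    try linear_combination ((-1)*g^21 + (-1)*g^22 + (-1)*g^23 + (-1)*g^24 + (1)*g^25 + (-1)*g^27 + (1)*g^28 + (-1)*g^31 + (-1)*g^35 + (-1)*g^36 + (-1)*g^37 + (-1)*g^38 + (1)*g^39 + (-1)*g^41 + (1)*g^42 + (-1)*g^43 + (-1)*g^44 + (1)*g^45 + (-1)*g^46 + (1)*g^47 + (1)*g^49 + (1)*g^51 + (1)*g^52 + (-1)*g^53 + (-1)*g^54 + (1)*g^56 + (-1)*g^58 + (-1)*g^59 + (-1)*g^61 + (1)*g^62 + (-1)*g^65) * hg + ((1)*g^25 + (1)*g^28 + (-1)*g^29 + (1)*g^39 + (1)*g^42 + (-1)*g^43 + (1)*g^45 + (-1)*g^46 + (1)*g^47 + (-1)*g^53 + (1)*g^62) * h3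
  · simp [m10, m11]
    try linear_combination ((1)*g^21 + (1)*g^22 + (1)*g^23 + (1)*g^24 + (-1)*g^25 + (1)*g^27 + (-1)*g^28 + (1)*g^29 + (1)*g^30 + (-1)*g^31 + (1)*g^32 + (-1)*g^33 + (-1)*g^35 + (-1)*g^37 + (-1)*g^38 + (1)*g^39 + (1)*g^40 + (-1)*g^42 + (1)*g^44 + (1)*g^45 + (1)*g^48 + (-1)*g^49 + (-1)*g^50 + (-1)*g^51 + (-1)*g^53 + (1)*g^54 + (-1)*g^57 + (-1)*g^61 + (-1)*g^62 + (-1)*g^65 + (1)*g^66 + (1)*g^67 + (1)*g^68 + (1)*g^70 + (-1)*g^71 + (1)*g^74) * hg + ((-1)*g^25 + (-1)*g^28 + (1)*g^29 + (-1)*g^31 + (1)*g^32 + (-1)*g^33 + (1)*g^39 + (-1)*g^49 + (1)*g^54 + (1)*g^66 + (-1)*g^71) * h3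

theorem sum_k00 (hg : g ^ 4 = 1 - g) (h3 : (3 : F) = 0) : ∑ m, k00 g m = 0 := by
  simp only [k00, Fin.sum_univ_five, Matrix.cons_val]
  linear_combination ((-1)*g^7 + (-1)*g^8 + (-1)*g^9 + (-1)*g^10 + (1)*g^11 + (-1)*g^13 + (1)*g^14 + (-1)*g^15 + (-1)*g^16 + (1)*g^17 + (-1)*g^18 + (1)*g^19 + (1)*g^21 + (1)*g^23 + (1)*g^24 + (-1)*g^25 + (1)*g^26 + (-1)*g^27 + (-1)*g^29 + (-1)*g^31 + (-1)*g^32 + (1)*g^33 + (1)*g^34 + (-1)*g^36 + (1)*g^38 + (1)*g^39 + (1)*g^42 + (-1)*g^43 + (-1)*g^44 + (-1)*g^45 + (-1)*g^47 + (1)*g^48 + (-1)*g^51 + (-1)*g^55 + (-1)*g^56 + (-1)*g^57 + (-1)*g^58 + (1)*g^59 + (-1)*g^61 + (1)*g^62 + (1)*g^63 + (1)*g^64 + (1)*g^66 + (-1)*g^67 + (1)*g^70) * hg + ((1)*g^11 + (1)*g^14 + (-1)*g^15 + (1)*g^17 + (-1)*g^18 + (1)*g^19 + (-1)*g^25 + (1)*g^26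 + (-1)*g^27 + (1)*g^33 + (-1)*g^43 + (1)*g^48 + (1)*g^59 + (1)*g^62 + (-1)*g^67) * h3

theorem sum_k01 (hg : g ^ 4 = 1 - g) (h3 : (3 : F) = 0) : ∑ m, k01 g m = 0 := by
  simp only [k01, Fin.sum_univ_five, Matrix.cons_val]
  linear_combination ((-1)*g^7 + (-1)*g^8 + (-1)*g^9 + (-1)*g^10 + (1)*g^11 + (-1)*g^13 + (1)*g^14 + (-1)*g^15 + (-1)*g^16 + (1)*g^17 + (-1)*g^18 + (1)*g^19 + (1)*g^21 + (1)*g^23 + (1)*g^24 + (-1)*g^25 + (-1)*g^26 + (1)*g^28 + (-1)*g^30 + (-1)*g^31 + (-1)*g^34 + (1)*g^35 + (1)*g^36 + (1)*g^37 + (1)*g^39 + (-1)*g^40 + (1)*g^43 + (1)*g^47 + (1)*g^48 + (1)*g^49 + (1)*g^50 + (-1)*g^51 + (1)*g^53 + (-1)*g^54 + (1)*g^55 + (1)*g^56 + (-1)*g^57 + (1)*g^58 + (-1)*g^59 + (1)*g^61 + (-1)*g^62 + (1)*g^65) * hg + ((1)*g^11 + (1)*g^14 + (-1)*g^15 + (1)*g^17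 + (-1)*g^18 + (1)*g^19 + (-1)*g^25 + (1)*g^35 + (-1)*g^40 + (-1)*g^51 + (-1)*g^54 + (1)*g^55 + (-1)*g^57 + (1)*g^58 + (-1)*g^59 + (1)*g^61 + (-1)*g^62 + (1)*g^63) * h3

theorem sum_k10 (hg : g ^ 4 = 1 - g) (h3 : (3 : F) = 0) : ∑ m, k10 g m = 0 := by
  simp only [k10, Fin.sum_univ_five, Matrix.cons_val]
  linear_combination ((-1)*g^7 + (-1)*g^8 + (-1)*g^9 + (-1)*g^10 + (1)*g^11 + (-1)*g^13 + (1)*g^14 + (-1)*g^15 + (-1)*g^16 + (1)*g^17 + (-1)*g^18 + (1)*g^19 + (1)*g^21 + (1)*g^23 + (1)*g^24 + (-1)*g^25 + (-1)*g^26 + (1)*g^28 + (-1)*g^30 + (-1)*g^31 + (-1)*g^34 + (1)*g^35 + (1)*g^36 + (1)*g^37 + (1)*g^39 + (-1)*g^40 + (1)*g^43 + (1)*g^47 + (1)*g^48 + (1)*g^49 + (1)*g^50 + (-1)*g^51 + (1)*g^53 + (-1)*g^54 + (1)*g^55 + (1)*g^56 + (-1)*g^57 + (1)*g^58 + (-1)*g^59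 + (1)*g^61 + (-1)*g^62 + (1)*g^65) * hg + ((1)*g^11 + (1)*g^14 + (-1)*g^15 + (1)*g^17 + (-1)*g^18 + (1)*g^19 + (-1)*g^25 + (1)*g^35 + (-1)*g^40 + (-1)*g^51 + (-1)*g^54 + (1)*g^55 + (-1)*g^57 + (1)*g^58 + (-1)*g^59 + (1)*g^61 + (-1)*g^62 + (1)*g^63) * h3

theorem sum_k11 (hg : g ^ 4 = 1 - g) (h3 : (3 : F) = 0) : ∑ m, k11 g m = 0 := by
  simp only [k11, Fin.sum_univ_five, Matrix.cons_val]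
  linear_combination ((-1)*g^21 + (-1)*g^22 + (-1)*g^23 + (-1)*g^24 + (1)*g^25 + (-1)*g^27 + (1)*g^28 + (1)*g^29 + (1)*g^30 + (1)*g^32 + (-1)*g^33 + (1)*g^36 + (1)*g^40 + (1)*g^41 + (1)*g^42 + (1)*g^43 + (-1)*g^44 + (1)*g^46 + (-1)*g^47 + (1)*g^48 + (1)*g^49 + (-1)*g^50 + (1)*g^51 + (-1)*g^52 + (-1)*g^54 + (-1)*g^56 + (-1)*g^57 + (1)*g^58 + (1)*g^59 + (-1)*g^61 + (-1)*g^62 + (-1)*g^65 + (1)*g^66 + (1)*g^67 + (1)*g^68 + (1)*g^70 + (-1)*g^71 + (1)*g^74) * hg + ((1)*g^25 + (1)*g^28 + (-1)*g^33 + (-1)*g^44 + (-1)*g^47 + (1)*g^48 + (-1)*g^50 + (1)*g^51 + (-1)*g^52 + (1)*g^58 + (1)*g^66 + (-1)*g^71) * h3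

theorem sum_m00 (hg : g ^ 4 = 1 - g) (h3 : (3 : F) = 0) : ∑ m, m00 g m = 0 := by
  simp only [m00, Fin.sum_univ_five, Matrix.cons_val]
  linear_combination ((-1)*g^7 + (-1)*g^8 + (-1)*g^9 + (-1)*g^10 + (1)*g^11 + (-1)*g^13 + (1)*g^14 + (-1)*g^15 + (-1)*g^16 + (1)*g^17 + (-1)*g^18 + (1)*g^19 + (1)*g^21 + (1)*g^23 + (1)*g^24 + (-1)*g^25 + (1)*g^26 + (-1)*g^27 + (-1)*g^29 + (-1)*g^31 + (-1)*g^32 + (1)*g^33 + (1)*g^34 + (-1)*g^36 + (1)*g^38 + (1)*g^39 + (1)*g^42 + (-1)*g^43 + (-1)*g^44 + (-1)*g^45 + (-1)*g^47 + (1)*g^48 + (-1)*g^51 + (-1)*g^55 + (-1)*g^56 + (-1)*g^57 + (-1)*g^58 + (1)*g^59 + (-1)*g^61 + (1)*g^62 + (1)*g^63 + (1)*g^64 + (1)*g^66 + (-1)*g^67 + (1)*g^70) * hg + ((1)*g^11 + (1)*g^14 + (-1)*g^15 + (1)*g^17 + (-1)*g^18 + (1)*g^19 + (-1)*g^25 + (1)*g^26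 + (-1)*g^27 + (1)*g^33 + (-1)*g^43 + (1)*g^48 + (1)*g^59 + (1)*g^62 + (-1)*g^67) * h3

theorem sum_m01 (hg : g ^ 4 = 1 - g) (h3 : (3 : F) = 0) : ∑ m, m01 g m = 0 := by
  simp only [m01, Fin.sum_univ_five, Matrix.cons_val]
  linear_combination ((-1)*g^7 + (-1)*g^8 + (-1)*g^9 + (-1)*g^10 + (1)*g^11 + (-1)*g^13 + (1)*g^14 + (-1)*g^15 + (-1)*g^16 + (1)*g^17 + (-1)*g^18 + (1)*g^19 + (1)*g^21 + (1)*g^23 + (1)*g^24 + (-1)*g^25 + (-1)*g^26 + (1)*g^28 + (-1)*g^30 + (-1)*g^31 + (-1)*g^34 + (1)*g^35 + (1)*g^36 + (1)*g^37 + (1)*g^39 + (-1)*g^40 + (1)*g^43 + (1)*g^47 + (1)*g^48 + (1)*g^49 + (1)*g^50 + (-1)*g^51 + (1)*g^53 + (-1)*g^54 + (1)*g^55 + (1)*g^56 + (-1)*g^57 + (1)*g^58 + (-1)*g^59 + (1)*g^61 + (-1)*g^62 + (1)*g^65) * hg + ((1)*g^11 + (1)*g^14 + (-1)*g^15 + (1)*g^17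 + (-1)*g^18 + (1)*g^19 + (-1)*g^25 + (1)*g^35 + (-1)*g^40 + (-1)*g^51 + (-1)*g^54 + (1)*g^55 + (-1)*g^57 + (1)*g^58 + (-1)*g^59 + (1)*g^61 + (-1)*g^62 + (1)*g^63) * h3

theorem sum_m10 (hg : g ^ 4 = 1 - g) (h3 : (3 : F) = 0) : ∑ m, m10 g m = 0 := by
  simp only [m10, Fin.sum_univ_five, Matrix.cons_val]
  linear_combination ((-1)*g^7 + (-1)*g^8 + (-1)*g^9 + (-1)*g^10 + (1)*g^11 + (-1)*g^13 + (1)*g^14 + (-1)*g^15 + (-1)*g^16 + (1)*g^17 + (-1)*g^18 + (1)*g^19 + (1)*g^21 + (1)*g^23 + (1)*g^24 + (-1)*g^25 + (-1)*g^26 + (1)*g^28 + (-1)*g^30 + (-1)*g^31 + (-1)*g^34 + (1)*g^35 + (1)*g^36 + (1)*g^37 + (1)*g^39 + (-1)*g^40 + (1)*g^43 + (1)*g^47 + (1)*g^48 + (1)*g^49 + (1)*g^50 + (-1)*g^51 + (1)*g^53 + (-1)*g^54 + (1)*g^55 + (1)*g^56 + (-1)*g^57 + (1)*g^58 + (-1)*g^59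 + (1)*g^61 + (-1)*g^62 + (1)*g^65) * hg + ((1)*g^11 + (1)*g^14 + (-1)*g^15 + (1)*g^17 + (-1)*g^18 + (1)*g^19 + (-1)*g^25 + (1)*g^35 + (-1)*g^40 + (-1)*g^51 + (-1)*g^54 + (1)*g^55 + (-1)*g^57 + (1)*g^58 + (-1)*g^59 + (1)*g^61 + (-1)*g^62 + (1)*g^63) * h3

theorem sum_m11 (hg : g ^ 4 = 1 - g) (h3 : (3 : F) = 0) : ∑ m, m11 g m = 0 := by
  simp only [m11, Fin.sum_univ_five, Matrix.cons_val]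
  linear_combination ((-1)*g^21 + (-1)*g^22 + (-1)*g^23 + (-1)*g^24 + (1)*g^25 + (-1)*g^27 + (1)*g^28 + (1)*g^29 + (1)*g^30 + (1)*g^32 + (-1)*g^33 + (1)*g^36 + (1)*g^40 + (1)*g^41 + (1)*g^42 + (1)*g^43 + (-1)*g^44 + (1)*g^46 + (-1)*g^47 + (1)*g^48 + (1)*g^49 + (-1)*g^50 + (1)*g^51 + (-1)*g^52 + (-1)*g^54 + (-1)*g^56 + (-1)*g^57 + (1)*g^58 + (1)*g^59 + (-1)*g^61 + (-1)*g^62 + (-1)*g^65 + (1)*g^66 + (1)*g^67 + (1)*g^68 + (1)*g^70 + (-1)*g^71 + (1)*g^74) * hg + ((1)*g^25 + (1)*g^28 + (-1)*g^33 + (-1)*g^44 + (-1)*g^47 + (1)*g^48 + (-1)*g^50 + (1)*g^51 + (-1)*g^52 + (1)*g^58 + (1)*g^66 + (-1)*g^71) * h3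


theorem gw (hg : g ^ 4 = 1 - g) (h3 : (3 : F) = 0) (n : ℕ) : g ^ (16 * n) = g ^ (16 * (n % 5)) := by
  conv_lhs => rw [← Nat.div_add_mod n 5]
  rw [show 16 * (5 * (n / 5) + n % 5) = 80 * (n / 5) + 16 * (n % 5) by ring, pow_add, pow_mul, g80 hg h3, one_pow, one_mul]

theorem g_ne (hg : g ^ 4 = 1 - g) : g ≠ 0 := by
  rintro rfl
  norm_num at hg

theorem ch_add (hg : g ^ 4 = 1 - g) (h3 : (3 : F) = 0) (j a b : Fin 5) : ch g j (a + b) = ch g j a * ch g j b := by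
  have e : ((j * (a + b) : Fin 5) : ℕ) = (((j * a : Fin 5) : ℕ) + ((j * b : Fin 5) : ℕ)) % 5 := by
    revert j a b; decide
  rw [ch, ch, ch, e, ← pow_add, ← mul_add, gw hg h3 (_ + _)]

theorem ch_add_left (hg : g ^ 4 = 1 - g) (h3 : (3 : F) = 0) (j l a : Fin 5) : ch g (j + l) a = ch g j a * ch g l a := by
  have e : (((j + l) * a : Fin 5) : ℕ) = (((j * a : Fin 5) : ℕ) + ((l * a : Fin 5) : ℕ)) % 5 := by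
    revert j l a; decide
  rw [ch, ch, ch, e, ← pow_add, ← mul_add, gw hg h3 (_ + _)]

theorem ch_cube (hg : g ^ 4 = 1 - g) (h3 : (3 : F) = 0) (j a : Fin 5) : ch g j a ^ 3 = ch g j (3 * a) := by
  have e : ((j * (3 * a) : Fin 5) : ℕ) = (3 * ((j * a : Fin 5) : ℕ)) % 5 := by
    revert j a; decide
  rw [ch, ch, e, ← pow_mul, ← gw hg h3]
  congr 1; ring

theorem ch_comm (g : F) (j a : Fin 5) : ch g j a = ch g a j := by rw [ch, ch, mul_comm j a]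

theorem ch_zero (g : F) (j : Fin 5) : ch g j 0 = 1 := by rw [ch, mul_zero]; simp

theorem ch_zero_left (g : F) (a : Fin 5) : ch g 0 a = 1 := by rw [ch_comm, ch_zero]

theorem ch_ne (hg : g ^ 4 = 1 - g) (j a : Fin 5) : ch g j a ≠ 0 := pow_ne_zero _ (g_ne hg)

theorem ch_neg_mul (hg : g ^ 4 = 1 - g) (h3 : (3 : F) = 0) (j a : Fin 5) : ch g (-j) a * ch g j a = 1 := by
  rw [← ch_add_left hg h3, neg_add_cancel, ch_zero_left]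

theorem ch_sum (hg : g ^ 4 = 1 - g) (h3 : (3 : F) = 0) (j : Fin 5) (hj : j ≠ 0) : ∑ a, ch g j a = 0 := by
  have k : ∀ a : Fin 5, ch g j a = g ^ (16 * ((j * a : Fin 5) : ℕ)) := fun _ => rfl
  simp only [k, Fin.sum_univ_five]
  fin_cases j
  · exact absurd rfl hj
  · change g ^ 0 + g ^ 16 + g ^ 32 + g ^ 48 + g ^ 64 = 0
    linear_combination ((-1)*g^0 + (-1)*g^1 + (-1)*g^2 + (-1)*g^3 + (1)*g^4 + (-1)*g^6 + (1)*g^7 + (-1)*g^8 + (-1)*g^9 + (1)*g^10 + (-1)*g^11 + (1)*g^12 + (1)*g^14 + (1)*g^18 + (1)*g^19 + (1)*g^20 + (1)*g^21 + (-1)*g^22 + (1)*g^24 + (-1)*g^25 + (1)*g^26 + (1)*g^27 + (-1)*g^28 + (1)*g^29 + (-1)*g^30 + (1)*g^32 + (-1)*g^33 + (1)*g^34 + (1)*g^35 + (-1)*g^36 + (1)*g^37 + (-1)*g^38 + (-1)*g^40 + (-1)*g^42 + (-1)*g^43 + (1)*g^44 + (1)*g^45 + (-1)*g^47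 + (-1)*g^48 + (-1)*g^51 + (1)*g^52 + (1)*g^53 + (1)*g^54 + (1)*g^56 + (-1)*g^57 + (1)*g^60) * hg + ((1)*g^4 + (1)*g^7 + (-1)*g^8 + (1)*g^10 + (-1)*g^11 + (1)*g^12 + (-1)*g^22 + (-1)*g^25 + (1)*g^26 + (-1)*g^28 + (1)*g^29 + (-1)*g^30 + (1)*g^32 + (-1)*g^33 + (1)*g^34 + (-1)*g^36 + (1)*g^37 + (-1)*g^38 + (1)*g^44 + (1)*g^52 + (-1)*g^57) * h3
  · change g ^ 0 + g ^ 32 + g ^ 64 + g ^ 16 + g ^ 48 = 0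
    linear_combination ((-1)*g^0 + (-1)*g^1 + (-1)*g^2 + (-1)*g^3 + (1)*g^4 + (-1)*g^6 + (1)*g^7 + (-1)*g^8 + (-1)*g^9 + (1)*g^10 + (-1)*g^11 + (1)*g^12 + (1)*g^14 + (1)*g^18 + (1)*g^19 + (1)*g^20 + (1)*g^21 + (-1)*g^22 + (1)*g^24 + (-1)*g^25 + (1)*g^26 + (1)*g^27 + (-1)*g^28 + (1)*g^29 + (-1)*g^30 + (1)*g^32 + (-1)*g^33 + (1)*g^34 + (1)*g^35 + (-1)*g^36 + (1)*g^37 + (-1)*g^38 + (-1)*g^40 + (-1)*g^42 + (-1)*g^43 + (1)*g^44 + (1)*g^45 + (-1)*g^47 + (-1)*g^48 + (-1)*g^51 + (1)*g^52 + (1)*g^53 + (1)*g^54 + (1)*g^56 + (-1)*g^57 + (1)*g^60) * hg + ((1)*g^4 + (1)*g^7 + (-1)*g^8 + (1)*g^10 + (-1)*g^11 + (1)*g^12 + (-1)*g^22 + (-1)*g^25 + (1)*g^26 + (-1)*g^28 + (1)*g^29 + (-1)*g^30 + (1)*g^32 + (-1)*g^33 + (1)*g^34 + (-1)*g^36 + (1)*g^37 + (-1)*g^38 + (1)*g^44 +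 (1)*g^52 + (-1)*g^57) * h3
  · change g ^ 0 + g ^ 48 + g ^ 16 + g ^ 64 + g ^ 32 = 0
    linear_combination ((-1)*g^0 + (-1)*g^1 + (-1)*g^2 + (-1)*g^3 + (1)*g^4 + (-1)*g^6 + (1)*g^7 + (-1)*g^8 + (-1)*g^9 + (1)*g^10 + (-1)*g^11 + (1)*g^12 + (1)*g^14 + (1)*g^18 + (1)*g^19 + (1)*g^20 + (1)*g^21 + (-1)*g^22 + (1)*g^24 + (-1)*g^25 + (1)*g^26 + (1)*g^27 + (-1)*g^28 + (1)*g^29 + (-1)*g^30 + (1)*g^32 + (-1)*g^33 + (1)*g^34 + (1)*g^35 + (-1)*g^36 + (1)*g^37 + (-1)*g^38 + (-1)*g^40 + (-1)*g^42 + (-1)*g^43 + (1)*g^44 + (1)*g^45 + (-1)*g^47 + (-1)*g^48 + (-1)*g^51 + (1)*g^52 + (1)*g^53 + (1)*g^54 + (1)*g^56 + (-1)*g^57 + (1)*g^60) * hg + ((1)*g^4 + (1)*g^7 + (-1)*g^8 + (1)*g^10 + (-1)*g^11 + (1)*g^12 + (-1)*g^22 + (-1)*g^25 + (1)*g^26 + (-1)*g^28 + (1)*g^29 + (-1)*g^30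 + (1)*g^32 + (-1)*g^33 + (1)*g^34 + (-1)*g^36 + (1)*g^37 + (-1)*g^38 + (1)*g^44 + (1)*g^52 + (-1)*g^57) * h3
  · change g ^ 0 + g ^ 64 + g ^ 48 + g ^ 32 + g ^ 16 = 0
    linear_combination ((-1)*g^0 + (-1)*g^1 + (-1)*g^2 + (-1)*g^3 + (1)*g^4 + (-1)*g^6 + (1)*g^7 + (-1)*g^8 + (-1)*g^9 + (1)*g^10 + (-1)*g^11 + (1)*g^12 + (1)*g^14 + (1)*g^18 + (1)*g^19 + (1)*g^20 + (1)*g^21 + (-1)*g^22 + (1)*g^24 + (-1)*g^25 + (1)*g^26 + (1)*g^27 + (-1)*g^28 + (1)*g^29 + (-1)*g^30 + (1)*g^32 + (-1)*g^33 + (1)*g^34 + (1)*g^35 + (-1)*g^36 + (1)*g^37 + (-1)*g^38 + (-1)*g^40 + (-1)*g^42 + (-1)*g^43 + (1)*g^44 + (1)*g^45 + (-1)*g^47 + (-1)*g^48 + (-1)*g^51 + (1)*g^52 + (1)*g^53 + (1)*g^54 + (1)*g^56 + (-1)*g^57 + (1)*g^60) * hg + ((1)*g^4 + (1)*g^7 + (-1)*g^8 + (1)*g^10 + (-1)*g^11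 + (1)*g^12 + (-1)*g^22 + (-1)*g^25 + (1)*g^26 + (-1)*g^28 + (1)*g^29 + (-1)*g^30 + (1)*g^32 + (-1)*g^33 + (1)*g^34 + (-1)*g^36 + (1)*g^37 + (-1)*g^38 + (1)*g^44 + (1)*g^52 + (-1)*g^57) * h3

def beE : Fin 5 → ℕ := ![0, 52, 44, 76, 68]
def alE : Fin 5 → ℕ := ![0, 70, 50, 50, 70]

theorem ft_s01 (hg : g ^ 4 = 1 - g) (h3 : (3 : F) = 0) (l : Fin 5) (hl : l ≠ 0) : ∑ m, ch g (-l) m * s01 m = g ^ (beE l) := by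
  simp only [Fin.sum_univ_five, s00, s01, Matrix.cons_val]
  fin_cases l
  · exact absurd rfl hl
  · have e : ∀ m : Fin 5, ch g (-(1 : Fin 5)) m = g ^ (16 * ((-(1 : Fin 5) * m : Fin 5) : ℕ)) := fun _ => rfl
    have e0 : ch g (-(1 : Fin 5)) 0 = g ^ 0 := rfl
    have e1 : ch g (-(1 : Fin 5)) 1 = g ^ 64 := rfl
    have e2 : ch g (-(1 : Fin 5)) 2 = g ^ 48 := rfl
    have e3 : ch g (-(1 : Fin 5)) 3 = g ^ 32 := rfl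
    have e4 : ch g (-(1 : Fin 5)) 4 = g ^ 16 := rfl
    change ch g (-(1 : Fin 5)) 0 * _ + ch g (-(1 : Fin 5)) 1 * _ + ch g (-(1 : Fin 5)) 2 * _ + ch g (-(1 : Fin 5)) 3 * _ + ch g (-(1 : Fin 5)) 4 * _ = g ^ 52
    rw [e0, e1, e2, e3, e4]
    linear_combination ((-1)*g^0 + (-1)*g^1 + (-1)*g^2 + (-1)*g^3 + (1)*g^4 + (-1)*g^6 + (1)*g^7 + (-1)*g^8 + (-1)*g^9 + (1)*g^10 + (-1)*g^11 + (1)*g^12 + (1)*g^14 + (-1)*g^16 + (-1)*g^17 + (-1)*g^20 + (1)*g^21 + (1)*g^22 + (1)*g^23 + (1)*g^25 + (-1)*g^26 + (1)*g^29 + (1)*g^33 + (1)*g^34 + (1)*g^35 + (1)*g^36 + (-1)*g^37 + (1)*g^39 + (-1)*g^40 + (1)*g^41 + (1)*g^42 + (-1)*g^43 + (1)*g^44 + (-1)*g^45 + (-1)*g^47 + (1)*g^48 + (-1)*g^51 + (1)*g^52 + (1)*g^53 + (1)*g^54 + (1)*g^56 + (-1)*g^57 + (1)*g^60) * hg + ((1)*g^4 + (1)*g^7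 + (-1)*g^8 + (1)*g^10 + (-1)*g^11 + (1)*g^12 + (-1)*g^16 + (1)*g^21 + (-1)*g^26 + (-1)*g^37 + (-1)*g^40 + (1)*g^41 + (-1)*g^43 + (1)*g^44 + (-1)*g^45 + (-1)*g^57) * h3
  · have e : ∀ m : Fin 5, ch g (-(2 : Fin 5)) m = g ^ (16 * ((-(2 : Fin 5) * m : Fin 5) : ℕ)) := fun _ => rfl
    have e0 : ch g (-(2 : Fin 5)) 0 = g ^ 0 := rfl
    have e1 : ch g (-(2 : Fin 5)) 1 = g ^ 48 := rfl
    have e2 : ch g (-(2 : Fin 5)) 2 = g ^ 16 := rfl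
    have e3 : ch g (-(2 : Fin 5)) 3 = g ^ 64 := rfl
    have e4 : ch g (-(2 : Fin 5)) 4 = g ^ 32 := rfl
    change ch g (-(2 : Fin 5)) 0 * _ + ch g (-(2 : Fin 5)) 1 * _ + ch g (-(2 : Fin 5)) 2 * _ + ch g (-(2 : Fin 5)) 3 * _ + ch g (-(2 : Fin 5)) 4 * _ = g ^ 44
    rw [e0, e1, e2, e3, e4]
    linear_combination ((-1)*g^0 + (-1)*g^1 + (-1)*g^2 + (-1)*g^3 + (1)*g^4 + (-1)*g^6 + (1)*g^7 + (-1)*g^8 + (-1)*g^9 + (1)*g^10 + (-1)*g^11 + (1)*g^12 + (1)*g^14 + (-1)*g^16 + (-1)*g^17 + (-1)*g^20 + (1)*g^21 + (1)*g^22 + (1)*g^23 + (1)*g^25 + (-1)*g^26 + (1)*g^29 + (1)*g^32 + (-1)*g^33 + (-1)*g^34 + (-1)*g^35 + (-1)*g^37 + (1)*g^38 + (-1)*g^41 + (1)*g^44) * hg + ((1)*g^4 + (1)*g^7 + (-1)*g^8 + (1)*g^10 + (-1)*g^11 + (1)*g^12 + (-1)*g^16 + (1)*g^21 + (-1)*g^26 + (-1)*g^33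 + (1)*g^38) * h3
  · have e : ∀ m : Fin 5, ch g (-(3 : Fin 5)) m = g ^ (16 * ((-(3 : Fin 5) * m : Fin 5) : ℕ)) := fun _ => rfl
    have e0 : ch g (-(3 : Fin 5)) 0 = g ^ 0 := rfl
    have e1 : ch g (-(3 : Fin 5)) 1 = g ^ 32 := rfl
    have e2 : ch g (-(3 : Fin 5)) 2 = g ^ 64 := rfl
    have e3 : ch g (-(3 : Fin 5)) 3 = g ^ 16 := rfl
    have e4 : ch g (-(3 : Fin 5)) 4 = g ^ 48 := rfl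
    change ch g (-(3 : Fin 5)) 0 * _ + ch g (-(3 : Fin 5)) 1 * _ + ch g (-(3 : Fin 5)) 2 * _ + ch g (-(3 : Fin 5)) 3 * _ + ch g (-(3 : Fin 5)) 4 * _ = g ^ 76
    rw [e0, e1, e2, e3, e4]
    linear_combination ((-1)*g^0 + (-1)*g^1 + (-1)*g^2 + (-1)*g^3 + (1)*g^4 + (-1)*g^6 + (1)*g^7 + (-1)*g^8 + (-1)*g^9 + (1)*g^10 + (-1)*g^11 + (1)*g^12 + (1)*g^14 + (1)*g^16 + (1)*g^17 + (-1)*g^18 + (-1)*g^19 + (1)*g^21 + (-1)*g^23 + (-1)*g^24 + (-1)*g^27 + (1)*g^28 + (1)*g^29 + (1)*g^30 + (1)*g^33 + (-1)*g^34 + (-1)*g^35 + (-1)*g^36 + (-1)*g^38 + (1)*g^39 + (-1)*g^42 + (-1)*g^46 + (-1)*g^47 + (-1)*g^50 + (1)*g^51 + (1)*g^52 + (1)*g^53 + (1)*g^55 + (-1)*g^56 + (1)*g^59 + (1)*g^63 + (-1)*g^64 + (-1)*g^65 + (-1)*g^66 + (-1)*g^68 + (1)*g^69 + (-1)*g^72) * hg + ((1)*g^4 + (1)*g^7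 + (-1)*g^8 + (1)*g^10 + (-1)*g^11 + (1)*g^12 + (-1)*g^18 + (1)*g^28 + (-1)*g^34 + (1)*g^39 + (1)*g^51 + (-1)*g^56 + (-1)*g^64 + (1)*g^69) * h3
  · have e : ∀ m : Fin 5, ch g (-(4 : Fin 5)) m = g ^ (16 * ((-(4 : Fin 5) * m : Fin 5) : ℕ)) := fun _ => rfl
    have e0 : ch g (-(4 : Fin 5)) 0 = g ^ 0 := rfl
    have e1 : ch g (-(4 : Fin 5)) 1 = g ^ 16 := rfl
    have e2 : ch g (-(4 : Fin 5)) 2 = g ^ 32 := rfl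
    have e3 : ch g (-(4 : Fin 5)) 3 = g ^ 48 := rfl
    have e4 : ch g (-(4 : Fin 5)) 4 = g ^ 64 := rfl
    change ch g (-(4 : Fin 5)) 0 * _ + ch g (-(4 : Fin 5)) 1 * _ + ch g (-(4 : Fin 5)) 2 * _ + ch g (-(4 : Fin 5)) 3 * _ + ch g (-(4 : Fin 5)) 4 * _ = g ^ 68
    rw [e0, e1, e2, e3, e4]
    linear_combination ((-1)*g^0 + (-1)*g^1 + (-1)*g^2 + (-1)*g^3 + (1)*g^4 + (-1)*g^6 + (1)*g^7 + (-1)*g^8 + (-1)*g^9 + (1)*g^10 + (-1)*g^11 + (1)*g^12 + (1)*g^14 + (1)*g^18 + (1)*g^19 + (1)*g^20 + (1)*g^21 + (-1)*g^22 + (1)*g^24 + (-1)*g^25 + (1)*g^26 + (1)*g^27 + (-1)*g^28 + (1)*g^29 + (-1)*g^30 + (1)*g^33 + (1)*g^37 + (1)*g^38 + (1)*g^39 + (1)*g^40 + (-1)*g^41 + (1)*g^43 + (-1)*g^44 + (1)*g^45 + (1)*g^46 + (-1)*g^47 + (1)*g^48 + (-1)*g^49 + (-1)*g^51 + (-1)*g^53 + (-1)*g^54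 + (1)*g^55 + (1)*g^56 + (-1)*g^58 + (1)*g^60 + (1)*g^61 + (-1)*g^64) * hg + ((1)*g^4 + (1)*g^7 + (-1)*g^8 + (1)*g^10 + (-1)*g^11 + (1)*g^12 + (-1)*g^22 + (-1)*g^25 + (1)*g^26 + (-1)*g^28 + (1)*g^29 + (-1)*g^30 + (-1)*g^41 + (-1)*g^44 + (1)*g^45 + (-1)*g^47 + (1)*g^48 + (-1)*g^49 + (1)*g^55 + (-1)*g^64) * h3

theorem ft_s00 (hg : g ^ 4 = 1 - g) (h3 : (3 : F) = 0) (l : Fin 5) (hl : l ≠ 0) : ∑ m, ch g (-l) m * s00 m - 1 = g ^ (alE l) := by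
  simp only [Fin.sum_univ_five, s00, s01, Matrix.cons_val]
  fin_cases l
  · exact absurd rfl hl
  · have e : ∀ m : Fin 5, ch g (-(1 : Fin 5)) m = g ^ (16 * ((-(1 : Fin 5) * m : Fin 5) : ℕ)) := fun _ => rfl
    have e0 : ch g (-(1 : Fin 5)) 0 = g ^ 0 := rfl
    have e1 : ch g (-(1 : Fin 5)) 1 = g ^ 64 := rfl
    have e2 : ch g (-(1 : Fin 5)) 2 = g ^ 48 := rfl
    have e3 : ch g (-(1 : Fin 5)) 3 = g ^ 32 := rfl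
    have e4 : ch g (-(1 : Fin 5)) 4 = g ^ 16 := rfl
    change ch g (-(1 : Fin 5)) 0 * _ + ch g (-(1 : Fin 5)) 1 * _ + ch g (-(1 : Fin 5)) 2 * _ + ch g (-(1 : Fin 5)) 3 * _ + ch g (-(1 : Fin 5)) 4 * _ - 1 = g ^ 70
    rw [e0, e1, e2, e3, e4]
    linear_combination ((1)*g^0 + (1)*g^1 + (1)*g^2 + (1)*g^3 + (-1)*g^4 + (1)*g^6 + (-1)*g^7 + (1)*g^8 + (1)*g^9 + (-1)*g^10 + (1)*g^11 + (-1)*g^12 + (-1)*g^14 + (1)*g^16 + (1)*g^17 + (1)*g^20 + (-1)*g^21 + (-1)*g^22 + (-1)*g^23 + (-1)*g^25 + (1)*g^26 + (-1)*g^29 + (1)*g^32 + (1)*g^36 + (1)*g^37 + (1)*g^38 + (1)*g^39 + (-1)*g^40 + (1)*g^42 + (-1)*g^43 + (1)*g^44 + (1)*g^45 + (-1)*g^46 + (1)*g^47 + (1)*g^49 + (1)*g^51 + (1)*g^52 + (-1)*g^53 + (-1)*g^54 + (1)*g^56 + (-1)*g^58 + (-1)*g^59 + (-1)*g^62 + (1)*g^63 + (-1)*g^66)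 * hg + ((-1)*g^4 + (-1)*g^7 + (1)*g^8 + (-1)*g^10 + (1)*g^11 + (-1)*g^12 + (1)*g^16 + (-1)*g^21 + (1)*g^26 + (-1)*g^40 + (-1)*g^43 + (1)*g^44 + (-1)*g^46 + (1)*g^47 + (-1)*g^48 + (-1)*g^53 + (1)*g^63) * h3
  · have e : ∀ m : Fin 5, ch g (-(2 : Fin 5)) m = g ^ (16 * ((-(2 : Fin 5) * m : Fin 5) : ℕ)) := fun _ => rfl
    have e0 : ch g (-(2 : Fin 5)) 0 = g ^ 0 := rfl
    have e1 : ch g (-(2 : Fin 5)) 1 = g ^ 48 := rfl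
    have e2 : ch g (-(2 : Fin 5)) 2 = g ^ 16 := rfl
    have e3 : ch g (-(2 : Fin 5)) 3 = g ^ 64 := rfl
    have e4 : ch g (-(2 : Fin 5)) 4 = g ^ 32 := rfl
    change ch g (-(2 : Fin 5)) 0 * _ + ch g (-(2 : Fin 5)) 1 * _ + ch g (-(2 : Fin 5)) 2 * _ + ch g (-(2 : Fin 5)) 3 * _ + ch g (-(2 : Fin 5)) 4 * _ - 1 = g ^ 50
    rw [e0, e1, e2, e3, e4]
    linear_combination ((1)*g^0 + (1)*g^1 + (1)*g^2 + (1)*g^3 + (-1)*g^4 + (1)*g^6 + (-1)*g^7 + (1)*g^8 + (1)*g^9 + (-1)*g^10 + (1)*g^11 + (-1)*g^12 + (-1)*g^14 + (-1)*g^18 + (-1)*g^19 + (-1)*g^20 + (-1)*g^21 + (1)*g^22 + (-1)*g^24 + (1)*g^25 + (-1)*g^26 + (-1)*g^27 + (1)*g^28 + (-1)*g^29 + (1)*g^30 + (-1)*g^33 + (-1)*g^37 + (-1)*g^38 + (-1)*g^39 + (-1)*g^40 + (1)*g^41 + (-1)*g^43 + (1)*g^44 + (-1)*g^45 + (-1)*g^46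 + (1)*g^47 + (1)*g^48 + (1)*g^51 + (-1)*g^52 + (-1)*g^53 + (-1)*g^54 + (-1)*g^56 + (1)*g^57 + (-1)*g^60) * hg + ((-1)*g^4 + (-1)*g^7 + (1)*g^8 + (-1)*g^10 + (1)*g^11 + (-1)*g^12 + (1)*g^22 + (1)*g^25 + (-1)*g^26 + (1)*g^28 + (-1)*g^29 + (1)*g^30 + (1)*g^41 + (1)*g^44 + (-1)*g^45 + (1)*g^47 + (-1)*g^52 + (1)*g^57) * h3
  · have e : ∀ m : Fin 5, ch g (-(3 : Fin 5)) m = g ^ (16 * ((-(3 : Fin 5) * m : Fin 5) : ℕ)) := fun _ => rfl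
    have e0 : ch g (-(3 : Fin 5)) 0 = g ^ 0 := rfl
    have e1 : ch g (-(3 : Fin 5)) 1 = g ^ 32 := rfl
    have e2 : ch g (-(3 : Fin 5)) 2 = g ^ 64 := rfl
    have e3 : ch g (-(3 : Fin 5)) 3 = g ^ 16 := rfl
    have e4 : ch g (-(3 : Fin 5)) 4 = g ^ 48 := rfl
    change ch g (-(3 : Fin 5)) 0 * _ + ch g (-(3 : Fin 5)) 1 * _ + ch g (-(3 : Fin 5)) 2 * _ + ch g (-(3 : Fin 5)) 3 * _ + ch g (-(3 : Fin 5)) 4 * _ - 1 = g ^ 50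
    rw [e0, e1, e2, e3, e4]
    linear_combination ((1)*g^0 + (1)*g^1 + (1)*g^2 + (1)*g^3 + (-1)*g^4 + (1)*g^6 + (-1)*g^7 + (1)*g^8 + (1)*g^9 + (-1)*g^10 + (1)*g^11 + (-1)*g^12 + (-1)*g^14 + (-1)*g^18 + (-1)*g^19 + (-1)*g^20 + (-1)*g^21 + (1)*g^22 + (-1)*g^24 + (1)*g^25 + (-1)*g^26 + (-1)*g^27 + (1)*g^28 + (-1)*g^29 + (1)*g^30 + (-1)*g^33 + (-1)*g^37 + (-1)*g^38 + (-1)*g^39 + (-1)*g^40 + (1)*g^41 + (-1)*g^43 + (1)*g^44 + (-1)*g^45 + (-1)*g^46 + (1)*g^47 + (1)*g^48 + (1)*g^51 + (-1)*g^52 + (-1)*g^53 + (-1)*g^54 + (-1)*g^56 + (1)*g^57 + (-1)*g^60) * hg + ((-1)*g^4 + (-1)*g^7 + (1)*g^8 + (-1)*g^10 + (1)*g^11 + (-1)*g^12 + (1)*g^22 + (1)*g^25 + (-1)*g^26 + (1)*g^28 + (-1)*g^29 + (1)*g^30 + (1)*g^41 + (1)*g^44 + (-1)*g^45 + (1)*g^47 + (-1)*g^52 + (1)*g^57) * h3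
  · have e : ∀ m : Fin 5, ch g (-(4 : Fin 5)) m = g ^ (16 * ((-(4 : Fin 5) * m : Fin 5) : ℕ)) := fun _ => rfl
    have e0 : ch g (-(4 : Fin 5)) 0 = g ^ 0 := rfl
    have e1 : ch g (-(4 : Fin 5)) 1 = g ^ 16 := rfl
    have e2 : ch g (-(4 : Fin 5)) 2 = g ^ 32 := rfl
    have e3 : ch g (-(4 : Fin 5)) 3 = g ^ 48 := rfl
    have e4 : ch g (-(4 : Fin 5)) 4 = g ^ 64 := rfl
    change ch g (-(4 : Fin 5)) 0 * _ + ch g (-(4 : Fin 5)) 1 * _ + ch g (-(4 : Fin 5)) 2 * _ + ch g (-(4 : Fin 5)) 3 * _ + ch g (-(4 : Fin 5)) 4 * _ - 1 = g ^ 70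
    rw [e0, e1, e2, e3, e4]
    linear_combination ((1)*g^0 + (1)*g^1 + (1)*g^2 + (1)*g^3 + (-1)*g^4 + (1)*g^6 + (-1)*g^7 + (1)*g^8 + (1)*g^9 + (-1)*g^10 + (1)*g^11 + (-1)*g^12 + (-1)*g^14 + (1)*g^16 + (1)*g^17 + (1)*g^20 + (-1)*g^21 + (-1)*g^22 + (-1)*g^23 + (-1)*g^25 + (1)*g^26 + (-1)*g^29 + (1)*g^32 + (1)*g^36 + (1)*g^37 + (1)*g^38 + (1)*g^39 + (-1)*g^40 + (1)*g^42 + (-1)*g^43 + (1)*g^44 + (1)*g^45 + (-1)*g^46 + (1)*g^47 + (1)*g^49 + (1)*g^51 + (1)*g^52 + (-1)*g^53 + (-1)*g^54 + (1)*g^56 + (-1)*g^58 + (-1)*g^59 + (-1)*g^62 + (1)*g^63 + (-1)*g^66) * hg + ((-1)*g^4 + (-1)*g^7 + (1)*g^8 + (-1)*g^10 + (1)*g^11 + (-1)*g^12 + (1)*g^16 + (-1)*g^21 + (1)*g^26 + (-1)*g^40 + (-1)*g^43 + (1)*g^44 + (-1)*g^46 + (1)*g^47 + (-1)*g^48 + (-1)*g^53 + (1)*g^63) * h3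

theorem I1 (hg : g ^ 4 = 1 - g) (h3 : (3 : F) = 0) (j l : Fin 5) (hj : j ≠ 0) (hl : l ≠ 0) :
    g ^ (beE l) * (1 - ch g j (-1)) = g ^ (bE j l) := by
  have e : ch g j (-1) = g ^ (16 * ((j * (-1) : Fin 5) : ℕ)) := rfl
  rw [e]
  fin_cases j <;> fin_cases l
  · exact absurd rfl hj
  · exact absurd rfl hj
  · exact absurd rfl hj
  · exact absurd rfl hj
  · exact absurd rfl hj
  · exact absurd rfl hl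
  · change g ^ 52 * (1 - g ^ 64) = g ^ 69
    linear_combination ((-1)*g^52 + (-1)*g^53 + (-1)*g^54 + (-1)*g^55 + (1)*g^56 + (-1)*g^58 + (1)*g^59 + (-1)*g^60 + (-1)*g^61 + (1)*g^62 + (-1)*g^63 + (1)*g^64 + (1)*g^66 + (1)*g^68 + (-1)*g^69 + (1)*g^72 + (1)*g^76 + (1)*g^77 + (1)*g^78 + (1)*g^79 + (-1)*g^80 + (1)*g^82 + (-1)*g^83 + (1)*g^84 + (1)*g^85 + (-1)*g^86 + (1)*g^87 + (-1)*g^88 + (-1)*g^90 + (-1)*g^92 + (-1)*g^93 + (1)*g^94 + (1)*g^95 + (-1)*g^97 + (1)*g^99 + (1)*g^100 + (1)*g^103 + (-1)*g^104 + (-1)*g^105 + (-1)*g^106 + (-1)*g^108 + (1)*g^109 + (-1)*g^112) * hg + ((1)*g^56 + (1)*g^59 + (-1)*g^60 + (1)*g^62 + (-1)*g^63 + (1)*g^64 + (-1)*g^69 + (-1)*g^80 + (-1)*g^83 + (1)*g^84 + (-1)*g^86 + (1)*g^87 + (-1)*g^88 + (1)*g^94 + (-1)*g^104 + (1)*g^109) * h3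
  · change g ^ 44 * (1 - g ^ 64) = g ^ 61
    linear_combination ((-1)*g^44 + (-1)*g^45 + (-1)*g^46 + (-1)*g^47 + (1)*g^48 + (-1)*g^50 + (1)*g^51 + (-1)*g^52 + (-1)*g^53 + (1)*g^54 + (-1)*g^55 + (1)*g^56 + (1)*g^58 + (1)*g^60 + (-1)*g^61 + (1)*g^64 + (1)*g^68 + (1)*g^69 + (1)*g^70 + (1)*g^71 + (-1)*g^72 + (1)*g^74 + (-1)*g^75 + (1)*g^76 + (1)*g^77 + (-1)*g^78 + (1)*g^79 + (-1)*g^80 + (-1)*g^82 + (-1)*g^84 + (-1)*g^85 + (1)*g^86 + (1)*g^87 + (-1)*g^89 + (1)*g^91 + (1)*g^92 + (1)*g^95 + (-1)*g^96 + (-1)*g^97 + (-1)*g^98 + (-1)*g^100 + (1)*g^101 + (-1)*g^104) * hg + ((1)*g^48 + (1)*g^51 + (-1)*g^52 + (1)*g^54 + (-1)*g^55 + (1)*g^56 + (-1)*g^61 + (-1)*g^72 + (-1)*g^75 + (1)*g^76 + (-1)*g^78 + (1)*g^79 + (-1)*g^80 + (1)*g^86 + (-1)*g^96 + (1)*g^101) * h3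
  · change g ^ 76 * (1 - g ^ 64) = g ^ 13
    linear_combination ((1)*g^13 + (1)*g^14 + (1)*g^15 + (1)*g^16 + (-1)*g^17 + (1)*g^19 + (-1)*g^20 + (1)*g^21 + (1)*g^22 + (-1)*g^23 + (1)*g^24 + (-1)*g^25 + (-1)*g^27 + (-1)*g^29 + (-1)*g^30 + (1)*g^31 + (1)*g^32 + (-1)*g^34 + (1)*g^36 + (1)*g^37 + (1)*g^40 + (-1)*g^41 + (-1)*g^42 + (-1)*g^43 + (-1)*g^45 + (1)*g^46 + (-1)*g^49 + (-1)*g^53 + (-1)*g^54 + (-1)*g^55 + (-1)*g^56 + (1)*g^57 + (-1)*g^59 + (1)*g^60 + (-1)*g^61 + (-1)*g^62 + (1)*g^63 + (-1)*g^64 + (1)*g^65 + (1)*g^67 + (1)*g^69 + (1)*g^70 + (-1)*g^71 + (-1)*g^72 + (1)*g^74 + (1)*g^76 + (1)*g^77 + (-1)*g^78 + (-1)*g^79 + (1)*g^81 + (-1)*g^83 + (-1)*g^84 + (-1)*g^87 + (1)*g^88 + (1)*g^89 + (1)*g^90 + (1)*g^92 + (-1)*g^93 + (1)*g^96 + (1)*g^100 + (1)*g^101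 + (1)*g^102 + (1)*g^103 + (-1)*g^104 + (1)*g^106 + (-1)*g^107 + (1)*g^108 + (1)*g^109 + (-1)*g^110 + (1)*g^111 + (-1)*g^112 + (-1)*g^114 + (-1)*g^116 + (-1)*g^117 + (1)*g^118 + (1)*g^119 + (-1)*g^121 + (1)*g^123 + (1)*g^124 + (1)*g^127 + (-1)*g^128 + (-1)*g^129 + (-1)*g^130 + (-1)*g^132 + (1)*g^133 + (-1)*g^136) * hg + ((-1)*g^17 + (-1)*g^20 + (1)*g^21 + (-1)*g^23 + (1)*g^24 + (-1)*g^25 + (1)*g^31 + (-1)*g^41 + (1)*g^46 + (1)*g^57 + (1)*g^60 + (-1)*g^61 + (1)*g^63 + (-1)*g^64 + (1)*g^65 + (-1)*g^71 + (1)*g^76 + (-1)*g^78 + (1)*g^88 + (-1)*g^93 + (-1)*g^104 + (-1)*g^107 + (1)*g^108 + (-1)*g^110 + (1)*g^111 + (-1)*g^112 + (1)*g^118 + (-1)*g^128 + (1)*g^133) * h3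
  · change g ^ 68 * (1 - g ^ 64) = g ^ 5
    linear_combination ((1)*g^5 + (1)*g^6 + (1)*g^7 + (1)*g^8 + (-1)*g^9 + (1)*g^11 + (-1)*g^12 + (1)*g^13 + (1)*g^14 + (-1)*g^15 + (1)*g^16 + (-1)*g^17 + (-1)*g^19 + (-1)*g^21 + (-1)*g^22 + (1)*g^23 + (1)*g^24 + (-1)*g^26 + (1)*g^28 + (1)*g^29 + (1)*g^32 + (-1)*g^33 + (-1)*g^34 + (-1)*g^35 + (-1)*g^37 + (1)*g^38 + (-1)*g^41 + (-1)*g^45 + (-1)*g^46 + (-1)*g^47 + (-1)*g^48 + (1)*g^49 + (-1)*g^51 + (1)*g^52 + (-1)*g^53 + (-1)*g^54 + (1)*g^55 + (-1)*g^56 + (1)*g^57 + (1)*g^59 + (1)*g^61 + (1)*g^62 + (-1)*g^63 + (-1)*g^64 + (1)*g^66 + (1)*g^68 + (1)*g^69 + (-1)*g^70 + (-1)*g^71 + (1)*g^73 + (-1)*g^75 + (-1)*g^76 + (-1)*g^79 + (1)*g^80 + (1)*g^81 + (1)*g^82 + (1)*g^84 + (-1)*g^85 + (1)*g^88 + (1)*g^92 + (1)*g^93 + (1)*g^94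 + (1)*g^95 + (-1)*g^96 + (1)*g^98 + (-1)*g^99 + (1)*g^100 + (1)*g^101 + (-1)*g^102 + (1)*g^103 + (-1)*g^104 + (-1)*g^106 + (-1)*g^108 + (-1)*g^109 + (1)*g^110 + (1)*g^111 + (-1)*g^113 + (1)*g^115 + (1)*g^116 + (1)*g^119 + (-1)*g^120 + (-1)*g^121 + (-1)*g^122 + (-1)*g^124 + (1)*g^125 + (-1)*g^128) * hg + ((-1)*g^9 + (-1)*g^12 + (1)*g^13 + (-1)*g^15 + (1)*g^16 + (-1)*g^17 + (1)*g^23 + (-1)*g^33 + (1)*g^38 + (1)*g^49 + (1)*g^52 + (-1)*g^53 + (1)*g^55 + (-1)*g^56 + (1)*g^57 + (-1)*g^63 + (1)*g^68 + (-1)*g^70 + (1)*g^80 + (-1)*g^85 + (-1)*g^96 + (-1)*g^99 + (1)*g^100 + (-1)*g^102 + (1)*g^103 + (-1)*g^104 + (1)*g^110 + (-1)*g^120 + (1)*g^125) * h3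
  · exact absurd rfl hl
  · change g ^ 52 * (1 - g ^ 48) = g ^ 31
    linear_combination ((1)*g^31 + (1)*g^32 + (1)*g^33 + (1)*g^34 + (-1)*g^35 + (1)*g^37 + (-1)*g^38 + (1)*g^39 + (1)*g^40 + (-1)*g^41 + (1)*g^42 + (-1)*g^43 + (-1)*g^45 + (-1)*g^47 + (-1)*g^48 + (1)*g^49 + (1)*g^50 + (1)*g^52 + (-1)*g^53 + (1)*g^56 + (1)*g^60 + (1)*g^61 + (1)*g^62 + (1)*g^63 + (-1)*g^64 + (1)*g^66 + (-1)*g^67 + (1)*g^68 + (1)*g^69 + (-1)*g^70 + (1)*g^71 + (-1)*g^72 + (-1)*g^74 + (-1)*g^76 + (-1)*g^77 + (1)*g^78 + (1)*g^79 + (-1)*g^81 + (1)*g^83 + (1)*g^84 + (1)*g^87 + (-1)*g^88 + (-1)*g^89 + (-1)*g^90 + (-1)*g^92 + (1)*g^93 + (-1)*g^96) * hg + ((-1)*g^35 + (-1)*g^38 + (1)*g^39 + (-1)*g^41 + (1)*g^42 + (-1)*g^43 + (1)*g^49 + (1)*g^52 + (-1)*g^53 + (-1)*g^64 + (-1)*g^67 + (1)*g^68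 + (-1)*g^70 + (1)*g^71 + (-1)*g^72 + (1)*g^78 + (-1)*g^88 + (1)*g^93) * h3
  · change g ^ 44 * (1 - g ^ 48) = g ^ 23
    linear_combination ((1)*g^23 + (1)*g^24 + (1)*g^25 + (1)*g^26 + (-1)*g^27 + (1)*g^29 + (-1)*g^30 + (1)*g^31 + (1)*g^32 + (-1)*g^33 + (1)*g^34 + (-1)*g^35 + (-1)*g^37 + (-1)*g^39 + (-1)*g^40 + (1)*g^41 + (1)*g^42 + (1)*g^44 + (-1)*g^45 + (1)*g^48 + (1)*g^52 + (1)*g^53 + (1)*g^54 + (1)*g^55 + (-1)*g^56 + (1)*g^58 + (-1)*g^59 + (1)*g^60 + (1)*g^61 + (-1)*g^62 + (1)*g^63 + (-1)*g^64 + (-1)*g^66 + (-1)*g^68 + (-1)*g^69 + (1)*g^70 + (1)*g^71 + (-1)*g^73 + (1)*g^75 + (1)*g^76 + (1)*g^79 + (-1)*g^80 + (-1)*g^81 + (-1)*g^82 + (-1)*g^84 + (1)*g^85 + (-1)*g^88) * hg + ((-1)*g^27 + (-1)*g^30 + (1)*g^31 + (-1)*g^33 + (1)*g^34 + (-1)*g^35 + (1)*g^41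 + (1)*g^44 + (-1)*g^45 + (-1)*g^56 + (-1)*g^59 + (1)*g^60 + (-1)*g^62 + (1)*g^63 + (-1)*g^64 + (1)*g^70 + (-1)*g^80 + (1)*g^85) * h3
  · change g ^ 76 * (1 - g ^ 48) = g ^ 55
    linear_combination ((1)*g^55 + (1)*g^56 + (1)*g^57 + (1)*g^58 + (-1)*g^59 + (1)*g^61 + (-1)*g^62 + (1)*g^63 + (1)*g^64 + (-1)*g^65 + (1)*g^66 + (-1)*g^67 + (-1)*g^69 + (-1)*g^71 + (-1)*g^72 + (1)*g^73 + (1)*g^74 + (1)*g^76 + (-1)*g^77 + (1)*g^80 + (1)*g^84 + (1)*g^85 + (1)*g^86 + (1)*g^87 + (-1)*g^88 + (1)*g^90 + (-1)*g^91 + (1)*g^92 + (1)*g^93 + (-1)*g^94 + (1)*g^95 + (-1)*g^96 + (-1)*g^98 + (-1)*g^100 + (-1)*g^101 + (1)*g^102 + (1)*g^103 + (-1)*g^105 + (1)*g^107 + (1)*g^108 + (1)*g^111 + (-1)*g^112 + (-1)*g^113 + (-1)*g^114 + (-1)*g^116 + (1)*g^117 + (-1)*g^120) * hg + ((-1)*g^59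 + (-1)*g^62 + (1)*g^63 + (-1)*g^65 + (1)*g^66 + (-1)*g^67 + (1)*g^73 + (1)*g^76 + (-1)*g^77 + (-1)*g^88 + (-1)*g^91 + (1)*g^92 + (-1)*g^94 + (1)*g^95 + (-1)*g^96 + (1)*g^102 + (-1)*g^112 + (1)*g^117) * h3
  · change g ^ 68 * (1 - g ^ 48) = g ^ 47
    linear_combination ((1)*g^47 + (1)*g^48 + (1)*g^49 + (1)*g^50 + (-1)*g^51 + (1)*g^53 + (-1)*g^54 + (1)*g^55 + (1)*g^56 + (-1)*g^57 + (1)*g^58 + (-1)*g^59 + (-1)*g^61 + (-1)*g^63 + (-1)*g^64 + (1)*g^65 + (1)*g^66 + (1)*g^68 + (-1)*g^69 + (1)*g^72 + (1)*g^76 + (1)*g^77 + (1)*g^78 + (1)*g^79 + (-1)*g^80 + (1)*g^82 + (-1)*g^83 + (1)*g^84 + (1)*g^85 + (-1)*g^86 + (1)*g^87 + (-1)*g^88 + (-1)*g^90 + (-1)*g^92 + (-1)*g^93 + (1)*g^94 + (1)*g^95 + (-1)*g^97 + (1)*g^99 + (1)*g^100 + (1)*g^103 + (-1)*g^104 + (-1)*g^105 +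 (-1)*g^106 + (-1)*g^108 + (1)*g^109 + (-1)*g^112) * hg + ((-1)*g^51 + (-1)*g^54 + (1)*g^55 + (-1)*g^57 + (1)*g^58 + (-1)*g^59 + (1)*g^65 + (1)*g^68 + (-1)*g^69 + (-1)*g^80 + (-1)*g^83 + (1)*g^84 + (-1)*g^86 + (1)*g^87 + (-1)*g^88 + (1)*g^94 + (-1)*g^104 + (1)*g^109) * h3
  · exact absurd rfl hl
  · change g ^ 52 * (1 - g ^ 32) = g ^ 23
    linear_combination ((1)*g^23 + (1)*g^24 + (1)*g^25 + (1)*g^26 + (-1)*g^27 + (1)*g^29 + (-1)*g^30 + (1)*g^31 + (1)*g^32 + (-1)*g^33 + (1)*g^34 + (-1)*g^35 + (-1)*g^37 + (-1)*g^39 + (-1)*g^40 + (1)*g^41 + (1)*g^42 + (-1)*g^44 + (1)*g^46 + (1)*g^47 + (1)*g^50 + (-1)*g^51 + (1)*g^52 + (1)*g^53 + (-1)*g^54 + (1)*g^55 + (-1)*g^56 + (-1)*g^58 + (-1)*g^60 + (-1)*g^61 + (1)*g^62 + (1)*g^63 + (-1)*g^65 + (1)*g^67 + (1)*g^68 + (1)*g^71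 + (-1)*g^72 + (-1)*g^73 + (-1)*g^74 + (-1)*g^76 + (1)*g^77 + (-1)*g^80) * hg + ((-1)*g^27 + (-1)*g^30 + (1)*g^31 + (-1)*g^33 + (1)*g^34 + (-1)*g^35 + (1)*g^41 + (-1)*g^51 + (1)*g^52 + (-1)*g^54 + (1)*g^55 + (-1)*g^56 + (1)*g^62 + (-1)*g^72 + (1)*g^77) * h3
  · change g ^ 44 * (1 - g ^ 32) = g ^ 15
    linear_combination ((1)*g^15 + (1)*g^16 + (1)*g^17 + (1)*g^18 + (-1)*g^19 + (1)*g^21 + (-1)*g^22 + (1)*g^23 + (1)*g^24 + (-1)*g^25 + (1)*g^26 + (-1)*g^27 + (-1)*g^29 + (-1)*g^31 + (-1)*g^32 + (1)*g^33 + (1)*g^34 + (-1)*g^36 + (1)*g^38 + (1)*g^39 + (1)*g^42 + (-1)*g^43 + (1)*g^44 + (1)*g^45 + (-1)*g^46 + (1)*g^47 + (-1)*g^48 + (-1)*g^50 + (-1)*g^52 + (-1)*g^53 + (1)*g^54 + (1)*g^55 + (-1)*g^57 + (1)*g^59 + (1)*g^60 + (1)*g^63 + (-1)*g^64 + (-1)*g^65 + (-1)*g^66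 + (-1)*g^68 + (1)*g^69 + (-1)*g^72) * hg + ((-1)*g^19 + (-1)*g^22 + (1)*g^23 + (-1)*g^25 + (1)*g^26 + (-1)*g^27 + (1)*g^33 + (-1)*g^43 + (1)*g^44 + (-1)*g^46 + (1)*g^47 + (-1)*g^48 + (1)*g^54 + (-1)*g^64 + (1)*g^69) * h3
  · change g ^ 76 * (1 - g ^ 32) = g ^ 47
    linear_combination ((1)*g^47 + (1)*g^48 + (1)*g^49 + (1)*g^50 + (-1)*g^51 + (1)*g^53 + (-1)*g^54 + (1)*g^55 + (1)*g^56 + (-1)*g^57 + (1)*g^58 + (-1)*g^59 + (-1)*g^61 + (-1)*g^63 + (-1)*g^64 + (1)*g^65 + (1)*g^66 + (-1)*g^68 + (1)*g^70 + (1)*g^71 + (1)*g^74 + (-1)*g^75 + (1)*g^76 + (1)*g^77 + (-1)*g^78 + (1)*g^79 + (-1)*g^80 + (-1)*g^82 + (-1)*g^84 + (-1)*g^85 + (1)*g^86 + (1)*g^87 + (-1)*g^89 + (1)*g^91 + (1)*g^92 + (1)*g^95 + (-1)*g^96 + (-1)*g^97 + (-1)*g^98 + (-1)*g^100 + (1)*g^101 + (-1)*g^104)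 * hg + ((-1)*g^51 + (-1)*g^54 + (1)*g^55 + (-1)*g^57 + (1)*g^58 + (-1)*g^59 + (1)*g^65 + (-1)*g^75 + (1)*g^76 + (-1)*g^78 + (1)*g^79 + (-1)*g^80 + (1)*g^86 + (-1)*g^96 + (1)*g^101) * h3
  · change g ^ 68 * (1 - g ^ 32) = g ^ 39
    linear_combination ((1)*g^39 + (1)*g^40 + (1)*g^41 + (1)*g^42 + (-1)*g^43 + (1)*g^45 + (-1)*g^46 + (1)*g^47 + (1)*g^48 + (-1)*g^49 + (1)*g^50 + (-1)*g^51 + (-1)*g^53 + (-1)*g^55 + (-1)*g^56 + (1)*g^57 + (1)*g^58 + (-1)*g^60 + (1)*g^62 + (1)*g^63 + (1)*g^66 + (-1)*g^67 + (1)*g^68 + (1)*g^69 + (-1)*g^70 + (1)*g^71 + (-1)*g^72 + (-1)*g^74 + (-1)*g^76 + (-1)*g^77 + (1)*g^78 + (1)*g^79 + (-1)*g^81 + (1)*g^83 + (1)*g^84 + (1)*g^87 + (-1)*g^88 + (-1)*g^89 + (-1)*g^90 + (-1)*g^92 + (1)*g^93 + (-1)*g^96) * hg + ((-1)*g^43 + (-1)*g^46 +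 (1)*g^47 + (-1)*g^49 + (1)*g^50 + (-1)*g^51 + (1)*g^57 + (-1)*g^67 + (1)*g^68 + (-1)*g^70 + (1)*g^71 + (-1)*g^72 + (1)*g^78 + (-1)*g^88 + (1)*g^93) * h3
  · exact absurd rfl hl
  · change g ^ 52 * (1 - g ^ 16) = g ^ 45
    linear_combination ((1)*g^45 + (1)*g^46 + (1)*g^47 + (1)*g^48 + (-1)*g^49 + (1)*g^51 + (1)*g^52 + (1)*g^55 + (-1)*g^56 + (-1)*g^57 + (-1)*g^58 + (-1)*g^60 + (1)*g^61 + (-1)*g^64) * hg + ((-1)*g^49 + (-1)*g^56 + (1)*g^61) * h3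
  · change g ^ 44 * (1 - g ^ 16) = g ^ 37
    linear_combination ((1)*g^37 + (1)*g^38 + (1)*g^39 + (1)*g^40 + (-1)*g^41 + (1)*g^43 + (1)*g^44 + (1)*g^47 + (-1)*g^48 + (-1)*g^49 + (-1)*g^50 + (-1)*g^52 + (1)*g^53 + (-1)*g^56) * hg + ((-1)*g^41 + (-1)*g^48 + (1)*g^53) * h3
  · change g ^ 76 * (1 - g ^ 16) = g ^ 69
    linear_combination ((1)*g^69 + (1)*g^70 + (1)*g^71 + (1)*g^72 + (-1)*g^73 + (1)*g^75 + (1)*g^76 + (1)*g^79 + (-1)*g^80 + (-1)*g^81 + (-1)*g^82 + (-1)*g^84 + (1)*g^85 + (-1)*g^88) * hg + ((-1)*g^73 + (-1)*g^80 + (1)*g^85) * h3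
  · change g ^ 68 * (1 - g ^ 16) = g ^ 61
    linear_combination ((1)*g^61 + (1)*g^62 + (1)*g^63 + (1)*g^64 + (-1)*g^65 + (1)*g^67 + (1)*g^68 + (1)*g^71 + (-1)*g^72 + (-1)*g^73 + (-1)*g^74 + (-1)*g^76 + (1)*g^77 + (-1)*g^80) * hg + ((-1)*g^65 + (-1)*g^72 + (1)*g^77) * h3

theorem I2 (hg : g ^ 4 = 1 - g) (h3 : (3 : F) = 0) (j l : Fin 5) (hj : j ≠ 0) (hl : l ≠ 0) :
    g ^ (alE l) * (ch g j (-2) - 1) = - (g ^ (bE j l) * (g ^ (eE j l)) ^ 2) := by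
  have e : ch g j (-2) = g ^ (16 * ((j * (-2) : Fin 5) : ℕ)) := rfl
  rw [e]
  fin_cases j <;> fin_cases l
  · exact absurd rfl hj
  · exact absurd rfl hj
  · exact absurd rfl hj
  · exact absurd rfl hj
  · exact absurd rfl hj
  · exact absurd rfl hl
  · change g ^ 70 * (g ^ 48 - 1) = - (g ^ 69 * (g ^ 30) ^ 2)
    linear_combination ((1)*g^70 + (1)*g^71 + (1)*g^72 + (1)*g^73 + (-1)*g^74 + (1)*g^76 + (-1)*g^77 + (1)*g^78 + (1)*g^79 + (-1)*g^80 + (1)*g^81 + (-1)*g^82 + (-1)*g^84 + (-1)*g^86 + (-1)*g^87 + (1)*g^88 + (1)*g^89 + (-1)*g^91 + (1)*g^93 + (1)*g^94 + (1)*g^97 + (-1)*g^98 + (-1)*g^99 + (-1)*g^100 + (-1)*g^102 + (1)*g^103 + (-1)*g^106 + (-1)*g^110 + (-1)*g^111 + (-1)*g^112 + (-1)*g^113 + (1)*g^114 + (-1)*g^116 + (1)*g^117 + (1)*g^118 + (1)*g^119 + (1)*g^121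 + (-1)*g^122 + (1)*g^125) * hg + ((-1)*g^74 + (-1)*g^77 + (1)*g^78 + (-1)*g^80 + (1)*g^81 + (-1)*g^82 + (1)*g^88 + (-1)*g^98 + (1)*g^103 + (1)*g^114 + (1)*g^117 + (-1)*g^122) * h3
  · change g ^ 50 * (g ^ 48 - 1) = - (g ^ 61 * (g ^ 24) ^ 2)
    linear_combination ((1)*g^50 + (1)*g^51 + (1)*g^52 + (1)*g^53 + (-1)*g^54 + (1)*g^56 + (-1)*g^57 + (1)*g^58 + (1)*g^59 + (-1)*g^60 + (1)*g^61 + (-1)*g^62 + (-1)*g^64 + (-1)*g^66 + (-1)*g^67 + (1)*g^68 + (1)*g^69 + (-1)*g^71 + (1)*g^73 + (1)*g^74 + (1)*g^77 + (-1)*g^78 + (-1)*g^79 + (-1)*g^80 + (-1)*g^82 + (1)*g^83 + (-1)*g^86 + (-1)*g^90 + (-1)*g^91 + (-1)*g^92 + (-1)*g^93 + (1)*g^94 + (-1)*g^96 + (1)*g^97 + (1)*g^98 + (1)*g^99 + (1)*g^101 + (-1)*g^102 + (1)*g^105) * hg + ((-1)*g^54 + (-1)*g^57 + (1)*g^58 + (-1)*g^60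 + (1)*g^61 + (-1)*g^62 + (1)*g^68 + (-1)*g^78 + (1)*g^83 + (1)*g^94 + (1)*g^97 + (-1)*g^102) * h3
  · change g ^ 50 * (g ^ 48 - 1) = - (g ^ 13 * (g ^ 8) ^ 2)
    linear_combination ((-1)*g^29 + (-1)*g^30 + (-1)*g^31 + (-1)*g^32 + (1)*g^33 + (-1)*g^35 + (1)*g^36 + (-1)*g^37 + (-1)*g^38 + (1)*g^39 + (-1)*g^40 + (1)*g^41 + (1)*g^43 + (1)*g^45 + (1)*g^46 + (-1)*g^47 + (-1)*g^48 + (-1)*g^50 + (1)*g^51 + (-1)*g^54 + (-1)*g^58 + (-1)*g^59 + (-1)*g^60 + (-1)*g^61 + (1)*g^62 + (-1)*g^64 + (1)*g^65 + (-1)*g^66 + (-1)*g^67 + (1)*g^68 + (-1)*g^69 + (1)*g^70 + (1)*g^72 + (1)*g^74 + (1)*g^75 + (-1)*g^76 + (-1)*g^77 + (1)*g^79 + (-1)*g^81 + (-1)*g^82 + (-1)*g^85 + (1)*g^86 + (1)*g^87 + (1)*g^88 + (1)*g^90 + (-1)*g^91 + (1)*g^94) * hg + ((1)*g^33 + (1)*g^36 + (-1)*g^37 +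 (1)*g^39 + (-1)*g^40 + (1)*g^41 + (-1)*g^47 + (-1)*g^50 + (1)*g^51 + (1)*g^62 + (1)*g^65 + (-1)*g^66 + (1)*g^68 + (-1)*g^69 + (1)*g^70 + (-1)*g^76 + (1)*g^86 + (-1)*g^91) * h3
  · change g ^ 70 * (g ^ 48 - 1) = - (g ^ 5 * (g ^ 22) ^ 2)
    linear_combination ((-1)*g^49 + (-1)*g^50 + (-1)*g^51 + (-1)*g^52 + (1)*g^53 + (-1)*g^55 + (1)*g^56 + (-1)*g^57 + (-1)*g^58 + (1)*g^59 + (-1)*g^60 + (1)*g^61 + (1)*g^63 + (1)*g^65 + (1)*g^66 + (-1)*g^67 + (-1)*g^68 + (-1)*g^70 + (1)*g^71 + (-1)*g^74 + (-1)*g^78 + (-1)*g^79 + (-1)*g^80 + (-1)*g^81 + (1)*g^82 + (-1)*g^84 + (1)*g^85 + (-1)*g^86 + (-1)*g^87 + (1)*g^88 + (-1)*g^89 + (1)*g^90 + (1)*g^92 + (1)*g^94 + (1)*g^95 + (-1)*g^96 + (-1)*g^97 + (1)*g^99 + (-1)*g^101 + (-1)*g^102 + (-1)*g^105 + (1)*g^106 + (1)*g^107 + (1)*g^108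 + (1)*g^110 + (-1)*g^111 + (1)*g^114) * hg + ((1)*g^53 + (1)*g^56 + (-1)*g^57 + (1)*g^59 + (-1)*g^60 + (1)*g^61 + (-1)*g^67 + (-1)*g^70 + (1)*g^71 + (1)*g^82 + (1)*g^85 + (-1)*g^86 + (1)*g^88 + (-1)*g^89 + (1)*g^90 + (-1)*g^96 + (1)*g^106 + (-1)*g^111) * h3
  · exact absurd rfl hl
  · change g ^ 70 * (g ^ 16 - 1) = - (g ^ 31 * (g ^ 16) ^ 2)
    linear_combination ((-1)*g^63 + (-1)*g^64 + (-1)*g^65 + (-1)*g^66 + (1)*g^67 + (-1)*g^69 + (-1)*g^70 + (-1)*g^73 + (1)*g^74 + (1)*g^75 + (1)*g^76 + (1)*g^78 + (-1)*g^79 + (1)*g^82) * hg + ((1)*g^67 + (1)*g^74 + (-1)*g^79) * h3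
  · change g ^ 50 * (g ^ 16 - 1) = - (g ^ 23 * (g ^ 10) ^ 2)
    linear_combination ((-1)*g^43 + (-1)*g^44 + (-1)*g^45 + (-1)*g^46 + (1)*g^47 + (-1)*g^49 + (-1)*g^50 + (-1)*g^53 + (1)*g^54 + (1)*g^55 + (1)*g^56 + (1)*g^58 + (-1)*g^59 + (1)*g^62) * hg + ((1)*g^47 + (1)*g^54 + (-1)*g^59) * h3
  · change g ^ 50 * (g ^ 16 - 1) = - (g ^ 55 * (g ^ 34) ^ 2)
    linear_combination ((1)*g^50 + (1)*g^51 + (1)*g^52 + (1)*g^53 + (-1)*g^54 + (1)*g^56 + (-1)*g^57 + (1)*g^58 + (1)*g^59 + (-1)*g^60 + (1)*g^61 + (-1)*g^62 + (-1)*g^64 + (1)*g^66 + (1)*g^67 + (1)*g^70 + (-1)*g^71 + (-1)*g^72 + (-1)*g^73 + (-1)*g^75 + (1)*g^76 + (-1)*g^79 + (-1)*g^83 + (-1)*g^84 + (-1)*g^85 + (-1)*g^86 + (1)*g^87 + (-1)*g^89 + (1)*g^90 + (-1)*g^91 + (-1)*g^92 + (1)*g^93 + (-1)*g^94 + (1)*g^95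 + (1)*g^97 + (1)*g^99 + (1)*g^100 + (-1)*g^101 + (-1)*g^102 + (1)*g^104 + (-1)*g^106 + (-1)*g^107 + (-1)*g^110 + (1)*g^111 + (1)*g^112 + (1)*g^113 + (1)*g^115 + (-1)*g^116 + (1)*g^119) * hg + ((-1)*g^54 + (-1)*g^57 + (1)*g^58 + (-1)*g^60 + (1)*g^61 + (-1)*g^62 + (1)*g^66 + (-1)*g^71 + (1)*g^76 + (1)*g^87 + (1)*g^90 + (-1)*g^91 + (1)*g^93 + (-1)*g^94 + (1)*g^95 + (-1)*g^101 + (1)*g^111 + (-1)*g^116) * h3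
  · change g ^ 70 * (g ^ 16 - 1) = - (g ^ 47 * (g ^ 8) ^ 2)
    linear_combination ((-1)*g^63 + (-1)*g^64 + (-1)*g^65 + (-1)*g^66 + (1)*g^67 + (-1)*g^69 + (-1)*g^70 + (-1)*g^73 + (1)*g^74 + (1)*g^75 + (1)*g^76 + (1)*g^78 + (-1)*g^79 + (1)*g^82) * hg + ((1)*g^67 + (1)*g^74 + (-1)*g^79) * h3
  · exact absurd rfl hl
  · change g ^ 70 * (g ^ 64 - 1) = - (g ^ 23 * (g ^ 32) ^ 2)
    linear_combination ((1)*g^70 + (1)*g^71 + (1)*g^72 + (1)*g^73 + (-1)*g^74 + (1)*g^76 + (-1)*g^77 + (1)*g^78 + (1)*g^79 + (-1)*g^80 + (1)*g^81 + (-1)*g^82 + (-1)*g^84 + (-1)*g^86 + (1)*g^87 + (-1)*g^90 + (-1)*g^94 + (-1)*g^95 + (-1)*g^96 + (-1)*g^97 + (1)*g^98 + (-1)*g^100 + (1)*g^101 + (-1)*g^102 + (-1)*g^103 + (1)*g^104 + (-1)*g^105 + (1)*g^106 + (1)*g^108 + (1)*g^110 + (1)*g^111 +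 (-1)*g^112 + (-1)*g^113 + (1)*g^115 + (-1)*g^117 + (-1)*g^118 + (-1)*g^121 + (1)*g^122 + (1)*g^123 + (1)*g^124 + (1)*g^126 + (-1)*g^127 + (1)*g^130) * hg + ((-1)*g^74 + (-1)*g^77 + (1)*g^78 + (-1)*g^80 + (1)*g^81 + (-1)*g^82 + (1)*g^87 + (1)*g^98 + (1)*g^101 + (-1)*g^102 + (1)*g^104 + (-1)*g^105 + (1)*g^106 + (-1)*g^112 + (1)*g^122 + (-1)*g^127) * h3
  · change g ^ 50 * (g ^ 64 - 1) = - (g ^ 15 * (g ^ 26) ^ 2)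
    linear_combination ((1)*g^50 + (1)*g^51 + (1)*g^52 + (1)*g^53 + (-1)*g^54 + (1)*g^56 + (-1)*g^57 + (1)*g^58 + (1)*g^59 + (-1)*g^60 + (1)*g^61 + (-1)*g^62 + (-1)*g^64 + (-1)*g^66 + (1)*g^67 + (-1)*g^70 + (-1)*g^74 + (-1)*g^75 + (-1)*g^76 + (-1)*g^77 + (1)*g^78 + (-1)*g^80 + (1)*g^81 + (-1)*g^82 + (-1)*g^83 + (1)*g^84 + (-1)*g^85 + (1)*g^86 + (1)*g^88 + (1)*g^90 + (1)*g^91 + (-1)*g^92 + (-1)*g^93 + (1)*g^95 + (-1)*g^97 + (-1)*g^98 + (-1)*g^101 + (1)*g^102 + (1)*g^103 + (1)*g^104 + (1)*g^106 + (-1)*g^107 + (1)*g^110) * hg + ((-1)*g^54 + (-1)*g^57 + (1)*g^58 + (-1)*g^60 + (1)*g^61 + (-1)*g^62 + (1)*g^67 + (1)*g^78 + (1)*g^81 + (-1)*g^82 + (1)*g^84 + (-1)*g^85 + (1)*g^86 + (-1)*g^92 + (1)*g^102 + (-1)*g^107) * h3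
  · change g ^ 50 * (g ^ 64 - 1) = - (g ^ 47 * (g ^ 10) ^ 2)
    linear_combination ((1)*g^50 + (1)*g^51 + (1)*g^52 + (1)*g^53 + (-1)*g^54 + (1)*g^56 + (-1)*g^57 + (1)*g^58 + (1)*g^59 + (-1)*g^60 + (1)*g^61 + (-1)*g^62 + (-1)*g^64 + (-1)*g^66 + (1)*g^67 + (-1)*g^70 + (-1)*g^74 + (-1)*g^75 + (-1)*g^76 + (-1)*g^77 + (1)*g^78 + (-1)*g^80 + (1)*g^81 + (-1)*g^82 + (-1)*g^83 + (1)*g^84 + (-1)*g^85 + (1)*g^86 + (1)*g^88 + (1)*g^90 + (1)*g^91 + (-1)*g^92 + (-1)*g^93 + (1)*g^95 + (-1)*g^97 + (-1)*g^98 + (-1)*g^101 + (1)*g^102 + (1)*g^103 + (1)*g^104 + (1)*g^106 + (-1)*g^107 + (1)*g^110) * hg + ((-1)*g^54 + (-1)*g^57 + (1)*g^58 + (-1)*g^60 + (1)*g^61 + (-1)*g^62 + (1)*g^67 + (1)*g^78 + (1)*g^81 + (-1)*g^82 + (1)*g^84 + (-1)*g^85 + (1)*g^86 + (-1)*g^92 + (1)*g^102 +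 (-1)*g^107) * h3
  · change g ^ 70 * (g ^ 64 - 1) = - (g ^ 39 * (g ^ 24) ^ 2)
    linear_combination ((1)*g^70 + (1)*g^71 + (1)*g^72 + (1)*g^73 + (-1)*g^74 + (1)*g^76 + (-1)*g^77 + (1)*g^78 + (1)*g^79 + (-1)*g^80 + (1)*g^81 + (-1)*g^82 + (-1)*g^84 + (-1)*g^86 + (1)*g^87 + (-1)*g^90 + (-1)*g^94 + (-1)*g^95 + (-1)*g^96 + (-1)*g^97 + (1)*g^98 + (-1)*g^100 + (1)*g^101 + (-1)*g^102 + (-1)*g^103 + (1)*g^104 + (-1)*g^105 + (1)*g^106 + (1)*g^108 + (1)*g^110 + (1)*g^111 + (-1)*g^112 + (-1)*g^113 + (1)*g^115 + (-1)*g^117 + (-1)*g^118 + (-1)*g^121 + (1)*g^122 + (1)*g^123 + (1)*g^124 + (1)*g^126 + (-1)*g^127 + (1)*g^130) * hg + ((-1)*g^74 + (-1)*g^77 + (1)*g^78 + (-1)*g^80 + (1)*g^81 + (-1)*g^82 + (1)*g^87 + (1)*g^98 + (1)*g^101 + (-1)*g^102 + (1)*g^104 + (-1)*g^105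 + (1)*g^106 + (-1)*g^112 + (1)*g^122 + (-1)*g^127) * h3
  · exact absurd rfl hl
  · change g ^ 70 * (g ^ 32 - 1) = - (g ^ 45 * (g ^ 38) ^ 2)
    linear_combination ((1)*g^70 + (1)*g^71 + (1)*g^72 + (1)*g^73 + (-1)*g^74 + (1)*g^76 + (-1)*g^77 + (1)*g^78 + (1)*g^79 + (-1)*g^80 + (1)*g^81 + (-1)*g^82 + (-1)*g^84 + (-1)*g^86 + (-1)*g^87 + (1)*g^88 + (1)*g^89 + (-1)*g^91 + (1)*g^93 + (1)*g^94 + (1)*g^97 + (-1)*g^98 + (-1)*g^99 + (-1)*g^100 + (1)*g^102 + (-1)*g^104 + (-1)*g^105 + (-1)*g^108 + (1)*g^109 + (1)*g^110 + (1)*g^111 + (1)*g^113 + (-1)*g^114 + (1)*g^117) * hg + ((-1)*g^74 + (-1)*g^77 + (1)*g^78 + (-1)*g^80 + (1)*g^81 + (-1)*g^82 + (1)*g^88 + (-1)*g^98 + (1)*g^102 + (1)*g^109 + (-1)*g^114) * h3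
  · change g ^ 50 * (g ^ 32 - 1) = - (g ^ 37 * (g ^ 32) ^ 2)
    linear_combination ((1)*g^50 + (1)*g^51 + (1)*g^52 + (1)*g^53 + (-1)*g^54 + (1)*g^56 + (-1)*g^57 + (1)*g^58 + (1)*g^59 + (-1)*g^60 + (1)*g^61 + (-1)*g^62 + (-1)*g^64 + (-1)*g^66 + (-1)*g^67 + (1)*g^68 + (1)*g^69 + (-1)*g^71 + (1)*g^73 + (1)*g^74 + (1)*g^77 + (-1)*g^78 + (-1)*g^79 + (-1)*g^80 + (1)*g^82 + (-1)*g^84 + (-1)*g^85 + (-1)*g^88 + (1)*g^89 + (1)*g^90 + (1)*g^91 + (1)*g^93 + (-1)*g^94 + (1)*g^97) * hg + ((-1)*g^54 + (-1)*g^57 + (1)*g^58 + (-1)*g^60 + (1)*g^61 + (-1)*g^62 + (1)*g^68 + (-1)*g^78 + (1)*g^82 + (1)*g^89 + (-1)*g^94) * h3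
  · change g ^ 50 * (g ^ 32 - 1) = - (g ^ 69 * (g ^ 16) ^ 2)
    linear_combination ((1)*g^50 + (1)*g^51 + (1)*g^52 + (1)*g^53 + (-1)*g^54 + (1)*g^56 + (-1)*g^57 + (1)*g^58 + (1)*g^59 + (-1)*g^60 + (1)*g^61 + (-1)*g^62 + (-1)*g^64 + (-1)*g^66 + (-1)*g^67 + (1)*g^68 + (1)*g^69 + (-1)*g^71 + (1)*g^73 + (1)*g^74 + (1)*g^77 + (-1)*g^78 + (-1)*g^79 + (-1)*g^80 + (1)*g^82 + (-1)*g^84 + (-1)*g^85 + (-1)*g^88 + (1)*g^89 + (1)*g^90 + (1)*g^91 + (1)*g^93 + (-1)*g^94 + (1)*g^97) * hg + ((-1)*g^54 + (-1)*g^57 + (1)*g^58 + (-1)*g^60 + (1)*g^61 + (-1)*g^62 + (1)*g^68 + (-1)*g^78 + (1)*g^82 + (1)*g^89 + (-1)*g^94) * h3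
  · change g ^ 70 * (g ^ 32 - 1) = - (g ^ 61 * (g ^ 30) ^ 2)
    linear_combination ((1)*g^70 + (1)*g^71 + (1)*g^72 + (1)*g^73 + (-1)*g^74 + (1)*g^76 + (-1)*g^77 + (1)*g^78 + (1)*g^79 + (-1)*g^80 + (1)*g^81 + (-1)*g^82 + (-1)*g^84 + (-1)*g^86 + (-1)*g^87 + (1)*g^88 + (1)*g^89 + (-1)*g^91 + (1)*g^93 + (1)*g^94 + (1)*g^97 + (-1)*g^98 + (-1)*g^99 + (-1)*g^100 + (1)*g^102 + (-1)*g^104 + (-1)*g^105 + (-1)*g^108 + (1)*g^109 + (1)*g^110 + (1)*g^111 + (1)*g^113 + (-1)*g^114 + (1)*g^117) * hg + ((-1)*g^74 + (-1)*g^77 + (1)*g^78 + (-1)*g^80 + (1)*g^81 + (-1)*g^82 + (1)*g^88 + (-1)*g^98 + (1)*g^102 + (1)*g^109 + (-1)*g^114) * h3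

theorem I3 (hg : g ^ 4 = 1 - g) (h3 : (3 : F) = 0) (j : Fin 5) (hj : j ≠ 0) :
    g ^ (alE j) * (ch g j (-2) - 1) + g ^ (beE j) * (1 - ch g j (-1)) = ch g j (-2) - 1 := by
  have e : ch g j (-2) = g ^ (16 * ((j * (-2) : Fin 5) : ℕ)) := rfl
  have e' : ch g j (-1) = g ^ (16 * ((j * (-1) : Fin 5) : ℕ)) := rfl
  rw [e, e']
  fin_cases j
  · exact absurd rfl hj
  · change g ^ 70 * (g ^ 48 - 1) + g ^ 52 * (1 - g ^ 64) = g ^ 48 - 1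
    linear_combination ((-1)*g^0 + (-1)*g^1 + (-1)*g^2 + (-1)*g^3 + (1)*g^4 + (-1)*g^6 + (1)*g^7 + (-1)*g^8 + (-1)*g^9 + (1)*g^10 + (-1)*g^11 + (1)*g^12 + (1)*g^14 + (1)*g^16 + (1)*g^17 + (-1)*g^18 + (-1)*g^19 + (1)*g^21 + (-1)*g^23 + (-1)*g^24 + (-1)*g^27 + (1)*g^28 + (1)*g^29 + (1)*g^30 + (1)*g^32 + (-1)*g^33 + (1)*g^36 + (1)*g^40 + (1)*g^41 + (1)*g^42 + (1)*g^43 + (-1)*g^44 + (1)*g^46 + (-1)*g^47 + (-1)*g^48 + (-1)*g^49 + (-1)*g^51 + (-1)*g^53 + (-1)*g^54 + (1)*g^55 + (1)*g^56 + (-1)*g^58 + (1)*g^60 + (1)*g^61 + (1)*g^64 + (-1)*g^65 + (-1)*g^66 + (-1)*g^67 + (-1)*g^69 + (-1)*g^70 + (1)*g^71 + (1)*g^72 + (-1)*g^74 + (1)*g^76 + (1)*g^77 + (1)*g^80 + (-1)*g^81 + (-1)*g^82 + (-1)*g^83 + (-1)*g^85 + (1)*g^86 + (-1)*g^89 + (-1)*g^93 + (-1)*g^94 + (-1)*g^95 +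 (-1)*g^96 + (1)*g^97 + (-1)*g^99 + (1)*g^100 + (-1)*g^101 + (-1)*g^102 + (1)*g^103 + (-1)*g^104 + (1)*g^105 + (1)*g^107 + (1)*g^109 + (1)*g^110 + (-1)*g^111 + (-1)*g^112 + (1)*g^114) * hg + ((1)*g^4 + (1)*g^7 + (-1)*g^8 + (1)*g^10 + (-1)*g^11 + (1)*g^12 + (-1)*g^18 + (1)*g^28 + (-1)*g^33 + (-1)*g^44 + (-1)*g^47 + (1)*g^52 + (1)*g^55 + (-1)*g^65 + (1)*g^71 + (-1)*g^81 + (1)*g^86 + (1)*g^97 + (1)*g^100 + (-1)*g^101 + (1)*g^103 + (-1)*g^104 + (1)*g^105 + (-1)*g^111) * h3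
  · change g ^ 50 * (g ^ 16 - 1) + g ^ 44 * (1 - g ^ 48) = g ^ 16 - 1
    linear_combination ((-1)*g^0 + (-1)*g^1 + (-1)*g^2 + (-1)*g^3 + (1)*g^4 + (-1)*g^6 + (1)*g^7 + (-1)*g^8 + (-1)*g^9 + (1)*g^10 + (-1)*g^11 + (1)*g^12 + (1)*g^14 + (-1)*g^16 + (-1)*g^17 + (-1)*g^20 + (1)*g^21 + (1)*g^22 + (1)*g^23 + (1)*g^25 + (-1)*g^26 + (1)*g^29 + (1)*g^33 + (1)*g^34 + (1)*g^35 + (1)*g^36 + (-1)*g^37 + (1)*g^39 + (-1)*g^40 + (1)*g^41 + (1)*g^42 + (-1)*g^43 + (1)*g^45 + (-1)*g^46 + (1)*g^47 + (1)*g^48 + (-1)*g^49 + (-1)*g^50 + (1)*g^52 + (-1)*g^54 + (-1)*g^55 + (-1)*g^58 + (1)*g^59 + (1)*g^60 + (1)*g^61 + (1)*g^63 + (-1)*g^64 + (-1)*g^66 + (-1)*g^68 + (-1)*g^69 + (1)*g^70 + (1)*g^71 + (-1)*g^73 + (1)*g^75 + (1)*g^76 + (1)*g^79 + (-1)*g^80 + (-1)*g^81 + (-1)*g^82 + (-1)*g^84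 + (1)*g^85 + (-1)*g^88) * hg + ((1)*g^4 + (1)*g^7 + (-1)*g^8 + (1)*g^10 + (-1)*g^11 + (1)*g^12 + (-1)*g^16 + (1)*g^21 + (-1)*g^26 + (-1)*g^37 + (-1)*g^40 + (1)*g^41 + (-1)*g^43 + (1)*g^44 + (-1)*g^46 + (1)*g^47 + (-1)*g^49 + (1)*g^59 + (-1)*g^64 + (1)*g^70 + (-1)*g^80 + (1)*g^85) * h3
  · change g ^ 50 * (g ^ 64 - 1) + g ^ 76 * (1 - g ^ 32) = g ^ 64 - 1
    linear_combination ((-1)*g^0 + (-1)*g^1 + (-1)*g^2 + (-1)*g^3 + (1)*g^4 + (-1)*g^6 + (1)*g^7 + (-1)*g^8 + (-1)*g^9 + (1)*g^10 + (-1)*g^11 + (1)*g^12 + (1)*g^14 + (1)*g^16 + (1)*g^17 + (-1)*g^18 + (-1)*g^19 + (1)*g^21 + (-1)*g^23 + (-1)*g^24 + (-1)*g^27 + (1)*g^28 + (1)*g^29 + (1)*g^30 + (1)*g^32 + (-1)*g^33 + (1)*g^36 + (1)*g^40 + (1)*g^41 + (1)*g^42 + (1)*g^43 + (-1)*g^44 + (1)*g^46 + (-1)*g^47 + (1)*g^48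 + (1)*g^49 + (-1)*g^51 + (1)*g^53 + (1)*g^54 + (1)*g^57 + (-1)*g^58 + (-1)*g^59 + (-1)*g^60 + (-1)*g^62 + (1)*g^63 + (1)*g^64 + (1)*g^65 + (1)*g^67 + (-1)*g^68 + (1)*g^71 + (1)*g^75 + (1)*g^79 + (1)*g^80 + (1)*g^81 + (1)*g^82 + (-1)*g^83 + (1)*g^85 + (-1)*g^86 + (1)*g^87 + (1)*g^88 + (-1)*g^89 + (1)*g^90 + (-1)*g^91 + (-1)*g^93 + (-1)*g^95 + (-1)*g^96 + (1)*g^97 + (1)*g^98 + (-1)*g^100 + (1)*g^102 + (1)*g^103 + (1)*g^106 + (-1)*g^107 + (1)*g^110) * hg + ((1)*g^4 + (1)*g^7 + (-1)*g^8 + (1)*g^10 + (-1)*g^11 + (1)*g^12 + (-1)*g^18 + (1)*g^28 + (-1)*g^33 + (-1)*g^44 + (-1)*g^47 + (1)*g^48 + (-1)*g^50 + (-1)*g^58 + (1)*g^63 + (-1)*g^68 + (-1)*g^83 + (-1)*g^86 + (1)*g^87 + (-1)*g^89 + (1)*g^90 + (-1)*g^91 + (1)*g^97 + (-1)*g^107) * h3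
  · change g ^ 70 * (g ^ 32 - 1) + g ^ 68 * (1 - g ^ 16) = g ^ 32 - 1
    linear_combination ((-1)*g^0 + (-1)*g^1 + (-1)*g^2 + (-1)*g^3 + (1)*g^4 + (-1)*g^6 + (1)*g^7 + (-1)*g^8 + (-1)*g^9 + (1)*g^10 + (-1)*g^11 + (1)*g^12 + (1)*g^14 + (1)*g^16 + (1)*g^17 + (-1)*g^18 + (-1)*g^19 + (1)*g^21 + (-1)*g^23 + (-1)*g^24 + (-1)*g^27 + (1)*g^28 + (1)*g^29 + (1)*g^30 + (-1)*g^32 + (1)*g^34 + (1)*g^35 + (1)*g^38 + (-1)*g^39 + (-1)*g^40 + (-1)*g^41 + (-1)*g^43 + (1)*g^44 + (-1)*g^47 + (-1)*g^51 + (-1)*g^52 + (-1)*g^53 + (-1)*g^54 + (1)*g^55 + (-1)*g^57 + (1)*g^58 + (-1)*g^59 + (-1)*g^60 + (1)*g^61 + (-1)*g^62 + (1)*g^63 + (1)*g^65 + (1)*g^67 + (1)*g^69 + (-1)*g^70 + (1)*g^73 + (1)*g^77 + (1)*g^78 + (1)*g^79 + (1)*g^80 + (-1)*g^81 + (1)*g^83 + (-1)*g^85 + (-1)*g^86 +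 (-1)*g^89 + (1)*g^90 + (1)*g^91 + (1)*g^92 + (1)*g^94 + (-1)*g^95 + (1)*g^98) * hg + ((1)*g^4 + (1)*g^7 + (-1)*g^8 + (1)*g^10 + (-1)*g^11 + (1)*g^12 + (-1)*g^18 + (1)*g^28 + (-1)*g^32 + (-1)*g^39 + (1)*g^44 + (1)*g^55 + (1)*g^58 + (-1)*g^59 + (1)*g^61 + (-1)*g^62 + (1)*g^63 + (-1)*g^70 + (-1)*g^81 + (-1)*g^84 + (1)*g^90 + (-1)*g^95) * h3

end scalars
end Cfsg.Agent.H879.E83
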